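import Mathlib
import Cfsg.Agent.Lib.Classical.SquareZero
import Cfsg.Agent.Lib.LinClasses.Model

/-! Normal forms of matrices whose square is a scalar. -/
set_option autoImplicit false

open scoped Matrix

namespace Cfsg.Agent.Lib.LinClasses

variable {F : Type*} [Field F] {ι : Type*} [Fintype ι] [DecidableEq ι]

lemma mulVec_mulVec_of_sq {x : Matrix ι ι F} {z : F} (hx : x * x = z • 1) (v : ι → F) :
    x *ᵥ (x *ᵥ v) = z • v := by
  rw [Matrix.mulVec_mulVec, hx, Matrix.smul_mulVec, Matrix.one_mulVec]

/-- `x² = s²`, `2s ≠ 0`: diagonalisable with eigenvalues `±s`. -/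
theorem exists_isModel_split {x : Matrix ι ι F} {s : F} (hs : s + s ≠ 0) (hx : x * x = (s * s) • 1) :
    ∃ a b : ℕ, a + b = Fintype.card ι ∧
      IsModel x (Matrix.diagonal (Sum.elim (fun _ : Fin a => s) (fun _ : Fin b => -s))) := by
  set P := LinearMap.ker (Matrix.toLin' x - s • LinearMap.id) with hP
  set M := LinearMap.ker (Matrix.toLin' x + s • LinearMap.id) with hM
  have hcompl : IsCompl P M := by
    constructor
    · rw [Submodule.disjoint_def]
      intro v h1 h2
      rw [hP, LinearMap.mem_ker] at h1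
      rw [hM, LinearMap.mem_ker] at h2
      simp only [LinearMap.sub_apply, LinearMap.add_apply, Matrix.toLin'_apply, LinearMap.smul_apply,
        LinearMap.id_apply] at h1 h2
      have h3 : (s + s) • v = 0 := by
        calc (s + s) • v = (x *ᵥ v + s • v) - (x *ᵥ v - s • v) := by rw [add_smul]; abel
          _ = 0 := by rw [h1, h2, sub_zero]
      exact (smul_eq_zero.mp h3).resolve_left hs
    · rw [codisjoint_iff, eq_top_iff]
      intro v _
      refine Submodule.mem_sup.mpr ⟨(s + s)⁻¹ • (s • v + x *ᵥ v), ?_, (s + s)⁻¹ • (s • v - x *ᵥ v), ?_, ?_⟩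
      · rw [hP, LinearMap.mem_ker]
        simp only [LinearMap.sub_apply, Matrix.toLin'_apply, LinearMap.smul_apply, LinearMap.id_apply,
          Matrix.mulVec_smul, Matrix.mulVec_add, mulVec_mulVec_of_sq hx]
        module
      · rw [hM, LinearMap.mem_ker]
        simp only [LinearMap.add_apply, Matrix.toLin'_apply, LinearMap.smul_apply, LinearMap.id_apply,
          Matrix.mulVec_smul, Matrix.mulVec_sub, mulVec_mulVec_of_sq hx]
        module
      · rw [← smul_add, show s • v + x *ᵥ v + (s • v - x *ᵥ v) = (s + s) • v by module, smul_smul,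
          inv_mul_cancel₀ hs, one_smul]
  let bP := Module.finBasis F P
  let bM := Module.finBasis F M
  let B := (bP.prod bM).map (Submodule.prodEquivOfIsCompl P M hcompl)
  have hBl : ∀ i, B (.inl i) = (bP i : ι → F) := fun i => by simp [B]
  have hBr : ∀ i, B (.inr i) = (bM i : ι → F) := fun i => by simp [B]
  refine ⟨Module.finrank F P, Module.finrank F M, ?_, ⟨B.equivFun.symm, fun v => ?_⟩⟩
  · rw [Submodule.finrank_add_eq_of_isCompl hcompl, Module.finrank_pi]
  · rw [B.equivFun_symm_apply, B.equivFun_symm_apply, Matrix.mulVec_sum]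
    refine Finset.sum_congr rfl fun i _ => ?_
    rw [Matrix.mulVec_smul, Matrix.mulVec_diagonal]
    rcases i with i | i
    · have h := (bP i).2
      simp only [hP, LinearMap.mem_ker, LinearMap.sub_apply, Matrix.toLin'_apply, LinearMap.smul_apply,
        LinearMap.id_apply, sub_eq_zero] at h
      rw [hBl, h, Sum.elim_inl, smul_smul, mul_comm]
    · have h := (bM i).2
      simp only [hM, LinearMap.mem_ker, LinearMap.add_apply, Matrix.toLin'_apply, LinearMap.smul_apply,
        LinearMap.id_apply] at h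
      rw [hBr, eq_neg_of_add_eq_zero_left h, Sum.elim_inr, smul_neg, smul_smul, ← neg_smul, mul_comm]
      congr 1
      ring

/-- The model of a square root of a non-square scalar. -/
def rotBlock (z : F) (b : ℕ) : Matrix (Fin 2 × Fin b) (Fin 2 × Fin b) F :=
  Matrix.blockDiagonal fun _ => !![0, z; 1, 0]

lemma rotBlock_mul_self (z : F) (b : ℕ) : rotBlock z b * rotBlock z b = z • 1 := by
  rw [rotBlock, ← Matrix.blockDiagonal_mul, ← Matrix.blockDiagonal_one, ← Matrix.blockDiagonal_smul]
  congr 1
  funext j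
  ext i k
  fin_cases i <;> fin_cases k <;> simp [Matrix.mul_apply, Fin.sum_univ_two]

lemma det_rotBlock (z : F) (b : ℕ) : (rotBlock z b).det = (-z) ^ b := by
  simp [rotBlock, Matrix.det_blockDiagonal, Matrix.det_fin_two_of]

lemma rotBlock_mulVec (z : F) (b : ℕ) (v : Fin 2 × Fin b → F) (j : Fin b) :
    (rotBlock z b *ᵥ v) (0, j) = z * v (1, j) ∧ (rotBlock z b *ᵥ v) (1, j) = v (0, j) := by
  constructor <;> simp [rotBlock, Matrix.mulVec, dotProduct, Matrix.blockDiagonal_apply, Fintype.sum_prod_type,
    Fin.sum_univ_two]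

/-- The centraliser of `rotBlock` has every determinant (finite field). -/
theorem hasDetCentralizer_rotBlock [Finite F] {z : F} (hz : ¬ IsSquare z) {b : ℕ} (hb : 0 < b) :
    HasDetCentralizer (rotBlock z b) := by
  intro d hd
  have hsol : ∃ α β : F, α ^ 2 - z * β ^ 2 = d := by
    have : Fintype F := Fintype.ofFinite F
    have h2 : ringChar F ≠ 2 := fun h => hz (FiniteField.isSquare_of_char_two h z)
    obtain ⟨α, β, h⟩ := FiniteField.exists_root_sum_quadratic
      (f := (Polynomial.X ^ 2 : Polynomial F)) (g := -Polynomial.C z * Polynomial.X ^ 2 - Polynomial.C d)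
      (Polynomial.degree_X_pow 2) (by
        have hz0 : z ≠ 0 := fun h => hz (h ▸ IsSquare.zero)
        compute_degree!) (FiniteField.odd_card_of_char_ne_two h2)
    refine ⟨α, β, ?_⟩
    simp at h
    linear_combination h
  obtain ⟨α, β, hab⟩ := hsol
  refine ⟨Matrix.blockDiagonal fun j : Fin b => if (j : ℕ) = 0 then !![α, z * β; β, α] else 1, ?_, ?_⟩
  · rw [rotBlock, ← Matrix.blockDiagonal_mul, ← Matrix.blockDiagonal_mul]
    congr 1
    funext j
    split_ifs
    · ext i k
      fin_cases i <;> fin_cases k <;> simp [Matrix.mul_apply, Fin.sum_univ_two] <;> ring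
    · rw [one_mul, mul_one]
  · rw [Matrix.det_blockDiagonal, Finset.prod_eq_single (⟨0, hb⟩ : Fin b)]
    · rw [if_pos rfl, Matrix.det_fin_two_of]
      linear_combination hab
    · intro j _ hj
      rw [if_neg (fun h => hj (Fin.ext h)), Matrix.det_one]
    · intro h
      exact absurd (Finset.mem_univ _) h

/-- `x² = z`, `z` a non-square: similar to `rotBlock z b`. -/
theorem exists_isModel_rot {x : Matrix ι ι F} {z : F} (hz : ¬ IsSquare z) (hx : x * x = z • 1) :
    ∃ b, b + b = Fintype.card ι ∧ IsModel x (rotBlock z b) := by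
  classical
  set T := Matrix.toLin' x with hT
  have hTT : ∀ v, T (T v) = z • v := fun v => by rw [hT, Matrix.toLin'_apply, Matrix.toLin'_apply, mulVec_mulVec_of_sq hx]
  obtain ⟨W, hW, hmax⟩ := (wellFounded_gt (α := Submodule F (ι → F))).has_min
    {W | W ⊓ W.map T = ⊥} ⟨⊥, by simp⟩
  have hW' : W ⊓ W.map T = ⊥ := hW
  set U := W ⊔ W.map T with hU
  have hUinv : ∀ u ∈ U, T u ∈ U := by
    intro u hu
    obtain ⟨a, ha, c, hc, rfl⟩ := Submodule.mem_sup.mp hu
    obtain ⟨w, hw, rfl⟩ := hc
    rw [map_add, hTT]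
    exact add_mem (Submodule.mem_sup_right ⟨a, ha, rfl⟩) (Submodule.mem_sup_left (W.smul_mem _ hw))
  have htop : U = ⊤ := by
    by_contra hne
    obtain ⟨v, -, hv⟩ := SetLike.exists_of_lt (lt_top_iff_ne_top.mpr hne)
    have key : ∀ α β : F, α • v + β • T v ∈ U → α = 0 ∧ β = 0 := by
      intro α β h
      have h1 := hUinv _ h
      rw [map_add, map_smul, map_smul, hTT] at h1
      have h2 : (α * α - z * (β * β)) • v ∈ U := by
        have := sub_mem (U.smul_mem α h) (U.smul_mem β h1)
        convert this using 1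
        module
      by_cases h0 : α * α - z * (β * β) = 0
      · by_cases hβ : β = 0
        · subst hβ
          simp at h0
          exact ⟨h0, rfl⟩
        · exact absurd ⟨α / β, by field_simp; linear_combination -h0⟩ hz
      · exact absurd ((U.smul_mem_iff h0).mp h2) hv
    have hlt : W < W ⊔ F ∙ v := by
      refine lt_of_le_of_ne le_sup_left fun h => hv ?_
      exact Submodule.mem_sup_left (h ▸ Submodule.mem_sup_right (Submodule.mem_span_singleton_self v))
    refine hmax (W ⊔ F ∙ v) ?_ hlt
    show (W ⊔ F ∙ v) ⊓ (W ⊔ F ∙ v).map T = ⊥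
    rw [eq_bot_iff]
    rintro u ⟨hu1, hu2⟩
    obtain ⟨w₁, hw₁, c₁, hc₁, rfl⟩ := Submodule.mem_sup.mp hu1
    obtain ⟨α, rfl⟩ := Submodule.mem_span_singleton.mp hc₁
    obtain ⟨u', hu', hu''⟩ := hu2
    obtain ⟨w₂, hw₂, c₂, hc₂, rfl⟩ := Submodule.mem_sup.mp hu'
    obtain ⟨β, rfl⟩ := Submodule.mem_span_singleton.mp hc₂
    rw [map_add, map_smul] at hu''
    have h := key α (-β) (by
      have : α • v + -β • T v = T w₂ - w₁ := by
        rw [neg_smul]
        linear_combination (norm := module) (-1 : F) • hu''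
      rw [this]
      exact sub_mem (Submodule.mem_sup_right ⟨w₂, hw₂, rfl⟩) (Submodule.mem_sup_left hw₁))
    obtain ⟨rfl, hβ⟩ := h
    rw [neg_eq_zero] at hβ
    subst hβ
    rw [zero_smul, add_zero] at hu'' ⊢
    rw [zero_smul, add_zero] at *
    rw [← hW']
    exact ⟨hw₁, hu'' ▸ ⟨w₂, hw₂, rfl⟩⟩
  have hcompl : IsCompl W (W.map T) := ⟨disjoint_iff.mpr hW', codisjoint_iff.mpr htop⟩
  have hTinj : Function.Injective T := by
    intro u v h
    have := congrArg T h
    rw [hTT, hTT] at this
    exact smul_right_injective _ (fun h0 : z = 0 => hz (h0 ▸ IsSquare.zero)) this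
  set b := Module.finrank F W
  let bW := Module.finBasis F W
  let bT := bW.map (Submodule.equivMapOfInjective T hTinj W)
  let e : Fin b ⊕ Fin b ≃ Fin 2 × Fin b :=
    (Equiv.sumCongr (Equiv.refl _) (Equiv.refl _)).trans
      ((Equiv.boolProdEquivSum (Fin b)).symm.trans (Equiv.prodCongr finTwoEquiv.symm (Equiv.refl _)))
  let B := ((bW.prod bT).map (Submodule.prodEquivOfIsCompl W (W.map T) hcompl)).reindex e
  have hB0 : ∀ j, B (0, j) = (bW j : ι → F) := by
    intro j
    have : e.symm (0, j) = Sum.inl j := by rw [Equiv.symm_apply_eq]; rfl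
    simp [B, this]
  have hB1 : ∀ j, B (1, j) = T (bW j : ι → F) := by
    intro j
    have : e.symm (1, j) = Sum.inr j := by rw [Equiv.symm_apply_eq]; rfl
    simp [B, this, bT]
  refine ⟨b, ?_, ⟨B.equivFun.symm, fun v => ?_⟩⟩
  · have h1 := Submodule.finrank_add_eq_of_isCompl hcompl
    rw [← (Submodule.equivMapOfInjective T hTinj W).finrank_eq, Module.finrank_pi] at h1
    exact h1
  · rw [B.equivFun_symm_apply, B.equivFun_symm_apply, ← Matrix.toLin'_apply x, ← hT, map_sum,
      Fintype.sum_prod_type, Fintype.sum_prod_type, Fin.sum_univ_two, Fin.sum_univ_two]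
    simp only [map_smul, hB0, hB1, hTT, smul_smul, fun j => (rotBlock_mulVec z b v j).1,
      fun j => (rotBlock_mulVec z b v j).2]
    rw [add_comm]
    congr 1
    exact Finset.sum_congr rfl fun j _ => by rw [mul_comm]

/-- Characteristic 2: `x² = s²` gives `x = s + N` with `N² = 0`. -/
theorem exists_isModel_charTwo [CharP F 2] {x : Matrix ι ι F} {s : F} (hx : x * x = (s * s) • 1) :
    ∃ r k : ℕ, r + (k + r) = Fintype.card ι ∧
      IsModel x (SquareZero.model F r k + s • 1) := by
  have hnn : s + s = 0 := CharTwo.add_self_eq_zero s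
  set N := x + s • (1 : Matrix ι ι F) with hN
  have hNN : N * N = 0 := by
    rw [hN]
    simp only [add_mul, mul_add, smul_mul_assoc, mul_smul_comm, one_mul, mul_one, hx, smul_add, smul_smul]
    rw [show (s * s) • (1 : Matrix ι ι F) + s • x + (s • x + (s * s) • 1)
      = ((s * s) + (s * s)) • (1 : Matrix ι ι F) + (s + s) • x by module, CharTwo.add_self_eq_zero, hnn,
      zero_smul, zero_smul, add_zero]
  obtain ⟨r, hr⟩ : ∃ r, Module.finrank F (LinearMap.range N.mulVecLin) = r := ⟨_, rfl⟩
  obtain ⟨k, hk, v, hv, h1, h2⟩ := SquareZero.exists_adapted_basis N.mulVecLin (by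
    rintro _ ⟨u, rfl⟩
    change N *ᵥ (N *ᵥ u) = 0
    rw [Matrix.mulVec_mulVec, hNN, Matrix.zero_mulVec]) hr
  rw [Module.finrank_pi] at hk
  have hspan : ⊤ ≤ Submodule.span F (Set.range v) := by
    refine (hv.span_eq_top_of_card_eq_finrank' ?_).ge
    simp only [Fintype.card_sum, Fintype.card_fin, Module.finrank_pi, hk]
  let B := Module.Basis.mk hv hspan
  have hmodel : IsModel N (SquareZero.model F r k) := by
    refine ⟨B.equivFun.symm, fun w => ?_⟩
    rw [B.equivFun_symm_apply, B.equivFun_symm_apply, Matrix.mulVec_sum]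
    simp only [Matrix.mulVec_smul, B, Module.Basis.mk_apply]
    have hl : ∀ i, N *ᵥ v (.inl i) = v (.inr (.inr i)) := h1
    have hr' : ∀ t, N *ᵥ v (.inr t) = 0 := h2
    simp only [Fintype.sum_sum_type, hl, hr', smul_zero, Finset.sum_const_zero, add_zero, Matrix.mulVec,
      dotProduct, SquareZero.model, Matrix.of_apply, zero_mul, zero_smul, ite_mul, one_mul,
      Finset.sum_ite_eq, Finset.mem_univ, if_true, zero_add]
  refine ⟨r, k, hk.symm, ?_⟩
  have := hmodel.add_scalar s
  rwa [hN, add_assoc, ← add_smul, hnn, zero_smul, add_zero] at this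

/-- The centraliser of the unipotent model has every determinant (finite field of characteristic 2). -/
theorem hasDetCentralizer_charTwo [Finite F] [CharP F 2] {r k : ℕ} (hr : r ≠ 0) (s : F) :
    HasDetCentralizer (SquareZero.model F r k + s • 1) := by
  classical
  intro c _
  obtain ⟨c', hc⟩ := FiniteField.isSquare_of_char_two (ringChar.eq F 2) c
  let d : SquareZero.SqIdx r k → F := fun t => match t with
    | .inl i => if i.val = 0 then c' else 1
    | .inr (.inl _) => 1
    | .inr (.inr i) => if i.val = 0 then c' else 1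
  refine ⟨Matrix.diagonal d, ?_, ?_⟩
  · rw [mul_add, add_mul, mul_smul_comm, smul_mul_assoc, one_mul, mul_one]
    congr 1
    ext i j
    simp only [Matrix.diagonal_mul, Matrix.mul_diagonal]
    rcases i with a | a | a <;> rcases j with b | b | b <;> simp [SquareZero.model, d]
    rcases eq_or_ne a b with rfl | h <;> simp [*]
  · rw [Matrix.det_diagonal]
    obtain ⟨r', rfl⟩ : ∃ r', r = r' + 1 := ⟨r - 1, by omega⟩
    simp [d, Fintype.prod_sum_type, Fin.prod_univ_succ, hc]

end Cfsg.Agent.Lib.LinClasses
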