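import Mathlib
import Cfsg.Prelude.Def_GeometricClasses
import Cfsg.Agent.Lib.LinClasses.SympBasis

/-! Matrices of odd prime order preserving no non-degenerate alternating form up to a scalar. -/
set_option autoImplicit false

open scoped Matrix

namespace Cfsg.Agent.Lib.LinClasses

variable {F : Type*} [Field F] {ι : Type} [Fintype ι] [DecidableEq ι]

/-- `x` preserves no alternating bilinear form without radical up to a scalar -/
def NoAltSimilitude (x : Matrix ι ι F) : Prop :=
  ∀ (B : LinearMap.BilinForm F (ι → F)), (∀ v, B v v = 0) → (∀ v, (∀ u, B u v = 0) → v = 0) →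
    ∀ c : F, c ≠ 0 → ¬ ∀ u v, B (x *ᵥ u) (x *ᵥ v) = c * B u v

theorem NoAltSimilitude.not_mem {f : (ι → F) → (ι → F) → F} (hf : Cfsg.Geo.IsSymplecticForm f)
    {x : Matrix.SpecialLinearGroup ι F} (hx : NoAltSimilitude (x : Matrix ι ι F))
    (P : Matrix.SpecialLinearGroup ι F) :
    P⁻¹ * x * P ∉ (Cfsg.Geo.similarityGroup f).comap
      (Matrix.SpecialLinearGroup.toGL : Matrix.SpecialLinearGroup ι F →* GL ι F) := by
  rintro ⟨c, hc⟩
  set Q := ((P⁻¹ : Matrix.SpecialLinearGroup ι F) : Matrix ι ι F) with hQ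
  have hPQ : (P : Matrix ι ι F) * Q = 1 := by
    rw [hQ, ← Matrix.SpecialLinearGroup.coe_mul, mul_inv_cancel, Matrix.SpecialLinearGroup.coe_one]
  have hQP : Q * (P : Matrix ι ι F) = 1 := by
    rw [hQ, ← Matrix.SpecialLinearGroup.coe_mul, inv_mul_cancel, Matrix.SpecialLinearGroup.coe_one]
  refine hx ((sympToBilin hf).compl₁₂ (Matrix.toLin' Q) (Matrix.toLin' Q))
    (fun v => by simp [sympToBilin_apply, hf.alternating]) (fun v hv => ?_) c c.ne_zero (fun u v => ?_)
  · by_contra hne
    have hQv : Q *ᵥ v ≠ 0 := fun h => hne (by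
      rw [← Matrix.one_mulVec v, ← hPQ, ← Matrix.mulVec_mulVec, h, Matrix.mulVec_zero])
    obtain ⟨⟨y, hy⟩, -⟩ := hf.nondegenerate _ hQv
    apply hy
    have := hv ((P : Matrix ι ι F) *ᵥ y)
    simpa [sympToBilin_apply, Matrix.mulVec_mulVec, hQP] using this
  · have h := hc (Q *ᵥ u) (Q *ᵥ v)
    simp only [LinearMap.compl₁₂_apply, Matrix.toLin'_apply, sympToBilin_apply, Matrix.mulVec_mulVec]
    simp only [map_mul, Units.val_mul, Matrix.SpecialLinearGroup.coe_GL_coe_matrix, Matrix.mulVec_mulVec] at h
    simpa [Matrix.mul_assoc, hPQ, ← hQ] using h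

theorem multiplier_eq_one {r : ℕ} (hroot : ∀ z : F, z ^ r = 1 → z = 1) {x : Matrix ι ι F} (hx : x ^ r = 1)
    {B : LinearMap.BilinForm F (ι → F)} {u₀ v₀ : ι → F} (hB : B u₀ v₀ ≠ 0) {c : F}
    (hc : ∀ u v, B (x *ᵥ u) (x *ᵥ v) = c * B u v) : c = 1 := by
  have hk : ∀ k u v, B (x ^ k *ᵥ u) (x ^ k *ᵥ v) = c ^ k * B u v := by
    intro k
    induction k with
    | zero => simp
    | succ k ih =>
      intro u v
      rw [pow_succ, ← Matrix.mulVec_mulVec, ← Matrix.mulVec_mulVec, ih, hc]
      ring
  have h := hk r u₀ v₀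
  rw [hx, Matrix.one_mulVec, Matrix.one_mulVec] at h
  exact hroot c ((mul_eq_right₀ hB).1 h.symm)

/-- the `r = p` witness -/
theorem exists_unipotent_no_alt {p : ℕ} [Fact p.Prime] [CharP F p] (hp : p ≠ 2) (m : ℕ) :
    ∃ x : Matrix.SpecialLinearGroup (Fin (m + 3)) F, ((x ^ p : Matrix.SpecialLinearGroup (Fin (m + 3)) F) : Matrix (Fin (m + 3)) (Fin (m + 3)) F) = 1 ∧
      (∀ z : F, (x : Matrix (Fin (m + 3)) (Fin (m + 3)) F) ≠ z • 1) ∧
      NoAltSimilitude (x : Matrix (Fin (m + 3)) (Fin (m + 3)) F) := by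
  classical
  have hpp : p.Prime := Fact.out
  let N : Matrix (Fin (m + 3)) (Fin (m + 3)) F := Matrix.single 0 1 1 + Matrix.single 1 2 1
  have h01 : (0 : Fin (m + 3)) ≠ 1 := by simp
  have v2 : ((2 : Fin (m + 3)) : ℕ) = 2 := by
    show (2 : ℕ) % (m + 3) = 2
    exact Nat.mod_eq_of_lt (show (2 : ℕ) < m + 3 by omega)
  have h12 : (1 : Fin (m + 3)) ≠ 2 := by rw [Fin.ne_iff_vne, v2]; simp [Fin.val_one]
  have h02 : (0 : Fin (m + 3)) ≠ 2 := by rw [Fin.ne_iff_vne, v2]; simp
  have hN3 : N ^ 3 = 0 := by
    simp [N, pow_succ, add_mul, mul_add, Matrix.single_mul_single_of_ne, h01, h12, h02, h01.symm, h12.symm, h02.symm]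
  have hroot : ∀ z : F, z ^ p = 1 → z = 1 := fun z hz =>
    frobenius_inj F p (show z ^ p = 1 ^ p by rw [hz, one_pow])
  have hpow : (1 + N) ^ p = 1 := by
    rw [add_pow_char_of_commute p (Commute.one_left N), one_pow,
      pow_eq_zero_of_le (show 3 ≤ p by have := hpp.two_le; omega) hN3, add_zero]
  have hdet : (1 + N).det = 1 := hroot _ (by rw [← Matrix.det_pow, hpow, Matrix.det_one])
  refine ⟨⟨1 + N, hdet⟩, (Matrix.SpecialLinearGroup.coe_pow _ _).trans hpow, fun z hz => ?_, fun B halt hnd c _ hc => ?_⟩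
  · have := congrFun (congrFun hz 0) 1
    simp [N, h01, h01.symm, h12, h02] at this
  · let e : Fin (m + 3) → (Fin (m + 3) → F) := fun i => Pi.single i 1
    have hN0 : N *ᵥ e 0 = 0 := by
      ext i; simp [N, e, Matrix.add_mulVec, Matrix.single_mulVec, h01, h02, h01.symm, h02.symm]
    have hN1 : N *ᵥ e 1 = e 0 := by
      ext i
      simp only [N, e, Matrix.add_mulVec, Matrix.single_mulVec]
      by_cases hi : i = 0 <;> simp [hi, h12, h12.symm, h01, Function.update_apply]
    have hN2 : N *ᵥ e 2 = e 1 := by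
      ext i
      simp only [N, e, Matrix.add_mulVec, Matrix.single_mulVec]
      by_cases hi : i = 1 <;> simp [hi, h12, h12.symm, h01, h01.symm, Function.update_apply]
    have hNk : ∀ k, k ≠ 1 → k ≠ 2 → N *ᵥ e k = 0 := fun k hk1 hk2 => by
      ext i; simp [N, e, Matrix.add_mulVec, Matrix.single_mulVec, Ne.symm hk1, Ne.symm hk2]
    have hBne : ∃ u v, B u v ≠ 0 := by
      by_contra h
      push Not at h
      have := congrFun (hnd (e 0) fun u => h u _) 0
      simp [e] at this
    obtain ⟨u₀, v₀, h0⟩ := hBne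
    obtain rfl := multiplier_eq_one hroot (x := 1 + N) hpow h0 hc
    have star : ∀ u v, B (N *ᵥ u) v + B u (N *ᵥ v) + B (N *ᵥ u) (N *ᵥ v) = 0 := fun u v => by
      have h : B ((1 + N) *ᵥ u) ((1 + N) *ᵥ v) = 1 * B u v := hc u v
      simp only [Matrix.add_mulVec, Matrix.one_mulVec, map_add, LinearMap.add_apply, one_mul] at h
      linear_combination h
    have b01 : B (e 0) (e 1) = 0 := by
      have := star (e 0) (e 2)
      simpa [hN0, hN2] using this
    have hrad : ∀ k, B (e k) (e 0) = 0 := by
      intro k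
      by_cases hk1 : k = 1
      · subst hk1
        have hflip : B (e 1) (e 0) = - B (e 0) (e 1) := by
          have := halt (e 0 + e 1)
          simp only [map_add, LinearMap.add_apply, halt] at this
          linear_combination this
        rw [hflip, b01, neg_zero]
      · by_cases hk2 : k = 2
        · subst hk2
          have := star (e 2) (e 1)
          simp only [hN2, hN1, halt] at this
          have hflip : B (e 1) (e 0) = - B (e 0) (e 1) := by
            have := halt (e 0 + e 1)
            simp only [map_add, LinearMap.add_apply, halt] at this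
            linear_combination this
          linear_combination this - hflip + b01
        · have := star (e k) (e 1)
          simpa [hNk k hk1 hk2, hN1] using this
    have := congrFun (hnd (e 0) fun u => by
      have hu : u = ∑ i, u i • e i := by simp [e, ← Pi.single_smul', Finset.univ_sum_single]
      rw [hu, map_sum, LinearMap.sum_apply]
      exact Finset.sum_eq_zero fun i _ => by simp [hrad]) 0
    simp [e] at this

/-- the `r ∣ q - 1` witness -/
theorem exists_diag_no_alt {r : ℕ} [Fact r.Prime] (hr : r ≠ 2) {ω : F} (hω : IsPrimitiveRoot ω r) (m : ℕ)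
    (hm : Odd m) (hgap : ¬ (m = 3 ∧ r = 3)) :
    ∃ x : Matrix.SpecialLinearGroup (Fin (m + 3)) F, ((x ^ r : Matrix.SpecialLinearGroup (Fin (m + 3)) F) : Matrix (Fin (m + 3)) (Fin (m + 3)) F) = 1 ∧
      (∀ z : F, (x : Matrix (Fin (m + 3)) (Fin (m + 3)) F) ≠ z • 1) ∧
      NoAltSimilitude (x : Matrix (Fin (m + 3)) (Fin (m + 3)) F) := by
  classical
  have hr3 : 3 ≤ r := by have := (Fact.out : r.Prime).two_le; omega
  have hω0 : ω ≠ 0 := hω.ne_zero (by omega)
  have h1 : ω ≠ 1 := hω.ne_one (by omega)
  have h2 : ω ^ 2 ≠ 1 := hω.pow_ne_one_of_pos_of_lt (by norm_num) (by omega)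
  set a := ω ^ (r - 2) with ha
  have hωa : ω * (ω * a) = 1 := by
    rw [ha, ← pow_succ', ← pow_succ', show r - 2 + 1 + 1 = r by omega, hω.pow_eq_one]
  let d : Fin (m + 3) → F := Fin.cons ω (Fin.cons ω (Fin.cons a fun _ : Fin m => 1))
  have hdr : ∀ i, d i ^ r = 1 := by
    intro i
    refine Fin.cases ?_ (fun i => Fin.cases ?_ (fun i => Fin.cases ?_ (fun i => ?_) i) i) i <;>
      simp only [d, Fin.cons_succ, Fin.cons_zero]
    · exact hω.pow_eq_one
    · exact hω.pow_eq_one
    · rw [ha, ← pow_mul, mul_comm, pow_mul, hω.pow_eq_one, one_pow]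
    · exact one_pow r
  have hd0 : ∀ i, d i ≠ 0 := fun i h => by
    have := hdr i; rw [h, zero_pow (by omega)] at this; exact zero_ne_one this
  have hdet : (Matrix.diagonal d).det = 1 := by
    rw [Matrix.det_diagonal, Fin.prod_univ_succ, Fin.prod_univ_succ, Fin.prod_univ_succ]
    simp only [d, Fin.cons_succ, Fin.cons_zero, Finset.prod_const_one, mul_one]
    exact hωa
  have hmult : ∀ y, (Finset.univ.filter fun i => d i = y).card =
      (if ω = y then 2 else 0) + (if a = y then 1 else 0) + (if 1 = y then m else 0) := by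
    intro y
    rw [Fin.card_filter_univ_succ', Fin.card_filter_univ_succ', Fin.card_filter_univ_succ']
    simp only [d, Fin.cons_succ, Fin.cons_zero]
    by_cases h₁ : ω = y <;> by_cases h₂ : a = y <;> by_cases h₃ : (1 : F) = y <;>
      simp [h₁, h₂, h₃] <;> omega
  refine ⟨⟨_, hdet⟩, ?_, fun z hz => ?_, fun B halt hnd c hc0 hc => ?_⟩
  · refine (Matrix.SpecialLinearGroup.coe_pow _ _).trans ?_
    show Matrix.diagonal d ^ r = 1
    rw [Matrix.diagonal_pow]
    exact (congrArg Matrix.diagonal (funext fun i => hdr i)).trans Matrix.diagonal_one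
  · have e0 := congrFun (congrFun hz 0) 0
    have e3 := congrFun (congrFun hz (Fin.last (m + 2))) (Fin.last (m + 2))
    have hl : d (Fin.last (m + 2)) = 1 := by
      obtain ⟨k, rfl⟩ : ∃ k, m = k + 1 := ⟨m - 1, by obtain ⟨t, rfl⟩ := hm; omega⟩
      show d (Fin.succ (Fin.succ (Fin.succ (Fin.last k)))) = 1
      simp only [d, Fin.cons_succ]
    simp [hl] at e0 e3
    exact h1 (by rw [← e3] at e0; simpa [d] using e0)
  · let G : Matrix (Fin (m + 3)) (Fin (m + 3)) F := Matrix.of fun i j => B (Pi.single i 1) (Pi.single j 1)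
    have hG : G.det ≠ 0 := by
      intro hdet0
      obtain ⟨v, hv0, hv⟩ := Matrix.exists_mulVec_eq_zero_iff.2 hdet0
      refine hv0 (hnd v fun u => ?_)
      have hu : u = ∑ i, u i • (Pi.single i 1 : Fin (m + 3) → F) := by
        simp [← Pi.single_smul', Finset.univ_sum_single]
      rw [hu, map_sum, LinearMap.sum_apply]
      refine Finset.sum_eq_zero fun i _ => ?_
      have hv' : v = ∑ j, v j • (Pi.single j 1 : Fin (m + 3) → F) := by
        simp [← Pi.single_smul', Finset.univ_sum_single]
      rw [map_smul, LinearMap.smul_apply, hv', map_sum]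
      have : ∑ j, B (Pi.single i 1) (Pi.single j 1) * v j = 0 := congrFun hv i
      simp [mul_comm (v _), this]
    obtain ⟨σ, hσ⟩ : ∃ σ : Equiv.Perm (Fin (m + 3)), ∀ i, G (σ i) i ≠ 0 := by
      by_contra h
      push Not at h
      apply hG
      rw [Matrix.det_apply G]
      refine Finset.sum_eq_zero fun σ _ => ?_
      obtain ⟨i, hi⟩ := h σ
      exact (congrArg _ (Finset.prod_eq_zero (f := fun j => G (σ j) j) (Finset.mem_univ i) hi)).trans (smul_zero _)
    have hpair : ∀ i, d (σ i) * d i = c := by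
      intro i
      have h := hc (Pi.single (σ i) 1) (Pi.single i 1)
      have e : ∀ j, Matrix.diagonal d *ᵥ (Pi.single j 1) = d j • (Pi.single j 1 : Fin (m + 3) → F) := fun j => by
        ext k
        rw [Matrix.mulVec_diagonal]
        by_cases hk : k = j
        · simp [hk]
        · simp [Pi.single_apply, hk]
      simp only [e, map_smul, LinearMap.smul_apply, smul_eq_mul] at h
      apply mul_right_cancel₀ (hσ i)
      simp only [G, Matrix.of_apply]
      linear_combination h
    have hsym : ∀ y, y ≠ 0 → (Finset.univ.filter fun i => d i = y).card =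
        (Finset.univ.filter fun i => d i = c / y).card := by
      intro y hy
      refine Finset.card_equiv σ fun i => ?_
      simp only [Finset.mem_filter, Finset.mem_univ, true_and]
      rw [eq_div_iff hy]
      constructor
      · intro h; rw [← h]; exact hpair i
      · intro h; exact mul_left_cancel₀ (hd0 (σ i)) (by rw [hpair i, h])
    have hcω : c / ω = ω := by
      have h := hsym ω hω0
      rw [hmult, hmult] at h
      by_contra hne
      have ha1 : a ≠ 1 := fun e => h2 (by rw [e, mul_one] at hωa; rw [pow_two]; exact hωa)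
      obtain ⟨t, ht⟩ := hm
      by_cases haω : a = ω
      · have hr' : r = 3 := by
          have h3 : ω ^ 3 = 1 := by rw [haω] at hωa; rw [← hωa]; ring
          have := Nat.le_of_dvd (by norm_num) ((hω.pow_eq_one_iff_dvd 3).1 h3)
          omega
        simp only [haω, if_true, if_neg h1.symm, if_neg (Ne.symm hne)] at h
        split_ifs at h <;> omega
      · simp only [if_neg haω, if_neg h1.symm, if_true, if_neg (Ne.symm hne)] at h
        split_ifs at h with e1 e2 <;> first | omega | exact ha1 (e1.trans e2.symm)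
    rw [div_eq_iff hω0] at hcω
    have h := hsym 1 one_ne_zero
    rw [hmult, hmult, div_one, hcω] at h
    have e1 : ω ≠ ω * ω := fun e => h1 (mul_left_cancel₀ hω0 (by rw [mul_one]; exact e.symm))
    have e2 : a ≠ ω * ω := fun e => by
      have h4 : ω ^ 4 = 1 := by rw [e] at hωa; rw [← hωa]; ring
      have hd := (hω.pow_eq_one_iff_dvd 4).1 h4
      have hle := Nat.le_of_dvd (by norm_num) hd
      interval_cases r
      · simp at hd
      · exact absurd (Fact.out : (4 : ℕ).Prime) (by norm_num)
    have e3 : (1 : F) ≠ ω * ω := fun e => h2 (by rw [pow_two, ← e])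
    simp only [if_true, if_neg e1, if_neg e2, if_neg e3] at h
    obtain ⟨t, ht⟩ := hm
    omega

open Polynomial in
/-- adjointness for polynomials in an isometry of finite order -/
theorem aeval_adjoint {V : Type*} [AddCommGroup V] [Module F V] (B : LinearMap.BilinForm F V)
    (T S : Module.End F V) (h : ∀ u v, B (T u) v = B u (S v)) (p : F[X]) :
    ∀ u v, B (aeval T p u) v = B u (aeval S p v) := by
  have hk : ∀ (k : ℕ) u v, B ((T ^ k) u) v = B u ((S ^ k) v) := by
    intro k
    induction k with
    | zero => simp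
    | succ k ih =>
      intro u v
      rw [pow_succ, Module.End.mul_apply, ih, pow_succ', Module.End.mul_apply]
      exact h _ _
  induction p using Polynomial.induction_on' with
  | add p q hp hq => intro u v; simp [map_add, hp, hq]
  | monomial k a => intro u v; simp [aeval_monomial, Module.End.mul_apply, Module.algebraMap_end_apply, hk]

end Cfsg.Agent.Lib.LinClasses
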