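import Mathlib
import Cfsg.Prelude.Def_GeometricClasses
import Cfsg.Agent.Lib.LinClasses.Model
import Cfsg.Agent.Lib.LinClasses.SquareRoot

/-! A non-abelian subgroup of order 27 and exponent 3 of `GL_3`, in an adapted basis. -/
set_option autoImplicit false

open scoped Matrix

namespace Cfsg.Agent.Lib.LinClasses.Heisenberg

variable {F : Type*} [Field F]

/-- `diag (1, ω, ω²)` -/
def dMat (ω : F) : Matrix (Fin 3) (Fin 3) F := Matrix.diagonal ![1, ω, ω * ω]

/-- `e₀ ↦ e₁ ↦ e₂ ↦ e₀` -/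
def sMat : Matrix (Fin 3) (Fin 3) F := !![0, 0, 1; 1, 0, 0; 0, 1, 0]

lemma three_ne_zero' {ω : F} (hω : IsPrimitiveRoot ω 3) : (3 : F) ≠ 0 := fun h => by
  have hω3 := hω.pow_eq_one
  have hsq : (ω - 1) ^ 3 = 0 := by linear_combination hω3 + (ω - ω ^ 2) * h
  exact hω.ne_one (by norm_num) (sub_eq_zero.1 (pow_eq_zero_iff (by norm_num) |>.1 hsq))

lemma sum_eq_zero {ω : F} (hω : IsPrimitiveRoot ω 3) : 1 + ω + ω ^ 2 = 0 := by
  apply (mul_eq_zero.1 (show (ω - 1) * (1 + ω + ω ^ 2) = 0 by linear_combination hω.pow_eq_one)).resolve_left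
  exact sub_ne_zero.2 (hω.ne_one (by norm_num))

/-- an eigenvector of a cube root of unity -/
lemma exists_eigen {ω : F} (hω : IsPrimitiveRoot ω 3) {A : Matrix (Fin 3) (Fin 3) F} (hA : A ^ 3 = 1) :
    ∃ (i : ℕ) (v : Fin 3 → F), v ≠ 0 ∧ A *ᵥ v = ω ^ i • v := by
  by_contra h
  push Not at h
  have key : ∀ (i : ℕ) (v : Fin 3 → F), (A - ω ^ i • 1) *ᵥ v = 0 → v = 0 := fun i v hv => by
    by_contra hv0
    rw [Matrix.sub_mulVec, sub_eq_zero, Matrix.smul_mulVec, Matrix.one_mulVec] at hv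
    exact h i v hv0 hv
  have hprod : (A - ω ^ 0 • 1) * ((A - ω ^ 1 • 1) * (A - ω ^ 2 • 1)) = 0 := by
    have hexp : (A - ω ^ 0 • 1) * ((A - ω ^ 1 • 1) * (A - ω ^ 2 • 1)) =
        A ^ 3 - (1 + ω + ω ^ 2) • A ^ 2 + (ω * (1 + ω + ω ^ 2)) • A - ω ^ 3 • 1 := by
      simp only [sub_mul, mul_sub, Matrix.smul_mul, Matrix.mul_smul, one_mul, mul_one, pow_succ, pow_zero]
      simp only [mul_assoc]
      module
    rw [hexp, sum_eq_zero hω, hA, hω.pow_eq_one]
    simp
  have h0 : ∀ v : Fin 3 → F, v = 0 := fun v => by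
    refine key 2 v (key 1 _ (key 0 _ ?_))
    rw [Matrix.mulVec_mulVec, Matrix.mulVec_mulVec, mul_assoc, hprod, Matrix.zero_mulVec]
  simpa using congrFun (h0 (Pi.single 0 1)) 0

/-- a matrix with three eigenvectors for `1, ω, ω²` -/
lemma exists_conj_dMat {ω : F} (hω : IsPrimitiveRoot ω 3) {A : Matrix (Fin 3) (Fin 3) F}
    (e : Fin 3 → (Fin 3 → F)) (he : ∀ j, e j ≠ 0) (hAe : ∀ j : Fin 3, A *ᵥ e j = ω ^ (j : ℕ) • e j) :
    ∃ P : GL (Fin 3) F, A * (P : Matrix (Fin 3) (Fin 3) F) = (P : Matrix (Fin 3) (Fin 3) F) * dMat ω ∧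
      ∀ i j, (P : Matrix (Fin 3) (Fin 3) F) i j = e j i := by
  let M : Matrix (Fin 3) (Fin 3) F := Matrix.of fun i j => e j i
  have hli : LinearIndependent F e := by
    refine Module.End.eigenvectors_linearIndependent' (Matrix.toLin' A) (fun j : Fin 3 => ω ^ (j : ℕ))
      (fun i j h => Fin.ext (hω.pow_inj i.isLt j.isLt h)) _ fun j => ⟨?_, he j⟩
    rw [Module.End.mem_eigenspace_iff, Matrix.toLin'_apply]
    exact hAe j
  have hu : IsUnit M := Matrix.linearIndependent_cols_iff_isUnit.1 (by exact hli)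
  refine ⟨hu.unit, ?_, fun i j => rfl⟩
  show A * M = M * dMat ω
  ext i j
  rw [Matrix.mul_apply, dMat, Matrix.mul_diagonal]
  have h := congrFun (hAe j) i
  simp only [Matrix.mulVec, dotProduct, Pi.smul_apply, smul_eq_mul] at h
  rw [show ∑ k, A i k * M k j = ω ^ (j : ℕ) * e j i from h]
  show _ = e j i * _
  fin_cases j <;> simp <;> ring

/-- matrices commuting with the two generators are scalar -/
lemma scalar_of_commute {ω : F} (hω : IsPrimitiveRoot ω 3) {C : Matrix (Fin 3) (Fin 3) F}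
    (hD : C * dMat ω = dMat ω * C) (hS : C * sMat = sMat * C) : C = C 0 0 • 1 := by
  have hdiag : ∀ i j : Fin 3, i ≠ j → C i j = 0 := by
    intro i j hij
    have h := congrFun (congrFun hD i) j
    rw [dMat, Matrix.mul_diagonal, Matrix.diagonal_mul] at h
    have hpow : ∀ k : Fin 3, (![1, ω, ω * ω] : Fin 3 → F) k = ω ^ (k : ℕ) := by
      intro k; fin_cases k <;> simp [pow_two]
    rw [hpow, hpow] at h
    by_contra hC
    exact hij (Fin.ext (hω.pow_inj i.isLt j.isLt (mul_right_cancel₀ hC ((h.symm).trans (mul_comm _ _)))))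
  have h10 := congrFun (congrFun hS 1) 0
  have h21 := congrFun (congrFun hS 2) 1
  simp [sMat, Matrix.mul_apply, Fin.sum_univ_three] at h10 h21
  ext i j
  by_cases hij : i = j
  · subst hij
    fin_cases i
    · simp
    · simpa using h10
    · simpa using h21.trans h10
  · rw [hdiag i j hij, Matrix.smul_apply, Matrix.one_apply_ne hij, smul_zero]

/-- an invertible matrix as a linear equivalence -/
def glEquiv (P : GL (Fin 3) F) : (Fin 3 → F) ≃ₗ[F] (Fin 3 → F) :=
  Matrix.toLin'OfInv (M' := (P : Matrix (Fin 3) (Fin 3) F)) (M := ((P⁻¹ : GL (Fin 3) F) : Matrix (Fin 3) (Fin 3) F))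
    (by rw [← Units.val_mul, inv_mul_cancel, Units.val_one]) (by rw [← Units.val_mul, mul_inv_cancel, Units.val_one])

lemma glEquiv_apply (P : GL (Fin 3) F) (v : Fin 3 → F) : glEquiv P v = (P : Matrix (Fin 3) (Fin 3) F) *ᵥ v :=
  by simp [glEquiv, Matrix.toLin'OfInv]

lemma det_dMat {ω : F} (hω : IsPrimitiveRoot ω 3) : (dMat ω).det = 1 := by
  rw [dMat, Matrix.det_diagonal, Fin.prod_univ_three]
  simp
  linear_combination hω.pow_eq_one

lemma det_sMat : (sMat : Matrix (Fin 3) (Fin 3) F).det = 1 := by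
  rw [Matrix.det_fin_three]
  simp [sMat]

/-- the data of `R` in an adapted basis -/
structure Frame (R : Subgroup (GL (Fin 3) F)) where
  ω : F
  hω : IsPrimitiveRoot ω 3
  P : GL (Fin 3) F
  a : GL (Fin 3) F
  b : GL (Fin 3) F
  z : GL (Fin 3) F
  ha : a ∈ R
  hb : b ∈ R
  hzR : z ∈ R
  hz : (z : Matrix (Fin 3) (Fin 3) F) = ω • 1
  haP : (a : Matrix (Fin 3) (Fin 3) F) * (P : Matrix (Fin 3) (Fin 3) F) = (P : Matrix (Fin 3) (Fin 3) F) * dMat ω
  hbP : (b : Matrix (Fin 3) (Fin 3) F) * (P : Matrix (Fin 3) (Fin 3) F) = (P : Matrix (Fin 3) (Fin 3) F) * sMat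
  gen : R = Subgroup.closure {a, b}

theorem exists_frame {ω₀ : F} (hω₀ : IsPrimitiveRoot ω₀ 3) {R : Subgroup (GL (Fin 3) F)} (hR : Nat.card R = 27)
    (hRe : Monoid.exponent R = 3) (hRna : ¬ IsMulCommutative R) : Nonempty (Frame R) := by
  haveI : Fact (Nat.Prime 3) := ⟨by norm_num⟩
  haveI : Finite R := Nat.finite_of_card_ne_zero (by omega)
  have hcube : ∀ g : R, g ^ 3 = 1 := fun g => by
    have h := Monoid.pow_exponent_eq_one g
    rwa [hRe] at h
  obtain ⟨a, b, hab⟩ : ∃ a b : R, a * b ≠ b * a := by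
    by_contra h
    push Not at h
    exact hRna ⟨⟨h⟩⟩
  have hp : IsPGroup 3 R := IsPGroup.of_card (n := 3) (by rw [hR]; norm_num)
  have hcard := Subgroup.card_mul_index (Subgroup.center R)
  rw [hR] at hcard
  have hquot : ∀ x y : R ⧸ Subgroup.center R, x * y = y * x := by
    have hdvd : Nat.card (R ⧸ Subgroup.center R) ∣ 3 ^ 2 := by
      haveI : Nontrivial R := ⟨⟨a * b, b * a, hab⟩⟩
      obtain ⟨k, hk⟩ := IsPGroup.iff_card.1 (hp.to_subgroup (Subgroup.center R))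
      have hk0 : k ≠ 0 := by
        rintro rfl
        have := hp.center_nontrivial
        exact not_subsingleton _ (Nat.card_eq_one_iff_unique.1 hk).1
      rw [← Subgroup.index_eq_card]
      rw [hk] at hcard
      obtain ⟨j, rfl⟩ : ∃ j, k = j + 1 := ⟨k - 1, by omega⟩
      refine ⟨3 ^ j, ?_⟩
      rw [pow_succ] at hcard
      nlinarith
    obtain ⟨i, hi, hi'⟩ := (Nat.dvd_prime_pow (by norm_num)).1 hdvd
    rcases (by omega : i = 0 ∨ i = 1 ∨ i = 2) with rfl | rfl | rfl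
    · intro x y
      haveI := (Nat.card_eq_one_iff_unique.1 hi').1
      exact Subsingleton.elim _ _
    · haveI : IsCyclic (R ⧸ Subgroup.center R) := isCyclic_of_prime_card (p := 3) (by rw [hi', pow_one])
      letI := IsCyclic.commGroup (α := R ⧸ Subgroup.center R)
      exact fun x y => mul_comm x y
    · exact IsPGroup.commutative_of_card_eq_prime_sq hi'
  set c : R := a * b * a⁻¹ * b⁻¹ with hc
  have hcZ : c ∈ Subgroup.center R := by
    rw [← QuotientGroup.eq_one_iff, hc]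
    simp only [QuotientGroup.mk_mul, QuotientGroup.mk_inv]
    rw [hquot (a : R ⧸ Subgroup.center R) b]
    group
  have hc1 : c ≠ 1 := fun h => hab (by
    rw [hc, mul_inv_eq_one, mul_inv_eq_iff_eq_mul] at h
    exact h)
  set A := ((a : GL (Fin 3) F) : Matrix (Fin 3) (Fin 3) F) with hA
  set B := ((b : GL (Fin 3) F) : Matrix (Fin 3) (Fin 3) F) with hB
  set C := ((c : GL (Fin 3) F) : Matrix (Fin 3) (Fin 3) F) with hC
  have hmat : ∀ g : R, ((g : GL (Fin 3) F) : Matrix (Fin 3) (Fin 3) F) ^ 3 = 1 := fun g => by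
    rw [← Units.val_pow_eq_pow_val, ← SubgroupClass.coe_pow, hcube, Subgroup.coe_one, Units.val_one]
  have hcomm : ∀ g : R, ((g : GL (Fin 3) F) : Matrix (Fin 3) (Fin 3) F) * C = C * ((g : GL (Fin 3) F) : Matrix (Fin 3) (Fin 3) F) :=
    fun g => by
      rw [hC, ← Units.val_mul, ← Units.val_mul, ← Subgroup.coe_mul, ← Subgroup.coe_mul,
        Subgroup.mem_center_iff.1 hcZ g]
  have hAB : A * B = C * (B * A) := by
    have h : a * b = c * (b * a) := by rw [hc]; group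
    rw [hA, hB, hC, ← Units.val_mul, ← Units.val_mul, ← Units.val_mul, ← Subgroup.coe_mul, ← Subgroup.coe_mul,
      ← Subgroup.coe_mul, ← h]
  -- an eigenvalue other than one
  obtain ⟨ζ, hζ, v, hv0, hv⟩ : ∃ ζ : F, IsPrimitiveRoot ζ 3 ∧ ∃ v, v ≠ 0 ∧ C *ᵥ v = ζ • v := by
    by_contra hno
    push Not at hno
    apply hc1
    apply Subtype.ext
    apply Units.ext
    show C = 1
    have key : ∀ ζ : F, IsPrimitiveRoot ζ 3 → ∀ v, (C - ζ • 1) *ᵥ v = 0 → v = 0 := fun ζ hζ v hv => by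
      by_contra hv0
      rw [Matrix.sub_mulVec, sub_eq_zero, Matrix.smul_mulVec, Matrix.one_mulVec] at hv
      exact hno ζ hζ v hv0 hv
    have hprod : (C - ω₀ • 1) * ((C - (ω₀ ^ 2) • 1) * (C - 1)) = 0 := by
      have hexp : (C - ω₀ • 1) * ((C - (ω₀ ^ 2) • 1) * (C - 1)) =
          C ^ 3 - (1 + ω₀ + ω₀ ^ 2) • C ^ 2 + (ω₀ * (1 + ω₀ + ω₀ ^ 2)) • C - ω₀ ^ 3 • 1 := by
        simp only [sub_mul, mul_sub, Matrix.smul_mul, Matrix.mul_smul, one_mul, mul_one, pow_succ, pow_zero]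
        simp only [mul_assoc]
        module
      rw [hexp, sum_eq_zero hω₀, hmat c, hω₀.pow_eq_one]
      simp
    apply Matrix.toLin'.injective
    refine LinearMap.ext fun w => sub_eq_zero.1 ?_
    rw [Matrix.toLin'_apply, Matrix.toLin'_apply, ← Matrix.sub_mulVec]
    refine key _ (hω₀.pow_of_coprime 2 (by norm_num)) _ (key _ hω₀ _ ?_)
    rw [Matrix.mulVec_mulVec, Matrix.mulVec_mulVec, mul_assoc, hprod, Matrix.zero_mulVec]
  -- the commutator is scalar
  let E : Submodule F (Fin 3 → F) := LinearMap.ker (Matrix.toLin' (C - ζ • 1))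
  have hE : ∀ w, w ∈ E ↔ C *ᵥ w = ζ • w := fun w => by
    simp [E, sub_eq_zero, Matrix.smul_mulVec]
  have hinv : ∀ g : R, ∀ w ∈ E, Matrix.toLin' ((g : GL (Fin 3) F) : Matrix (Fin 3) (Fin 3) F) w ∈ E := by
    intro g w hw
    rw [hE, Matrix.toLin'_apply, Matrix.mulVec_mulVec, ← hcomm, ← Matrix.mulVec_mulVec, (hE w).1 hw, Matrix.mulVec_smul]
  let rA := (Matrix.toLin' A).restrict (hinv a)
  let rB := (Matrix.toLin' B).restrict (hinv b)
  have hrel : rA ∘ₗ rB = ζ • (rB ∘ₗ rA) := by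
    refine LinearMap.ext fun w => Subtype.ext ?_
    show A *ᵥ (B *ᵥ (w : Fin 3 → F)) = ζ • (B *ᵥ (A *ᵥ (w : Fin 3 → F)))
    rw [Matrix.mulVec_mulVec, hAB, ← Matrix.mulVec_mulVec, ← Matrix.mulVec_mulVec]
    have := (hE _).1 (hinv b _ (hinv a _ w.2))
    simpa [Matrix.toLin'_apply] using this
  have hdet0 : ∀ (g : R), LinearMap.det ((Matrix.toLin' ((g : GL (Fin 3) F) : Matrix (Fin 3) (Fin 3) F)).restrict (hinv g)) ≠ 0 := by
    intro g h0
    obtain ⟨w, hw, hw0⟩ : ∃ w : E, ((Matrix.toLin' ((g : GL (Fin 3) F) : Matrix (Fin 3) (Fin 3) F)).restrict (hinv g)) w = 0 ∧ w ≠ 0 := by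
      obtain ⟨w, hw, hw0⟩ := (Submodule.ne_bot_iff _).1 (LinearMap.bot_lt_ker_of_det_eq_zero h0).ne'
      exact ⟨w, hw, hw0⟩
    apply hw0
    apply Subtype.ext
    have h := congrArg (fun x : E => ((g⁻¹ : GL (Fin 3) F) : Matrix (Fin 3) (Fin 3) F) *ᵥ (x : Fin 3 → F)) hw
    simpa [LinearMap.restrict_coe_apply, Matrix.mulVec_mulVec] using h
  have hdim : Module.finrank F E = 3 := by
    have h := congrArg LinearMap.det hrel
    rw [LinearMap.det_smul, LinearMap.det_comp, LinearMap.det_comp, mul_comm (LinearMap.det rA)] at h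
    have h1 : ζ ^ Module.finrank F E = 1 := (mul_eq_right₀ (mul_ne_zero (hdet0 b) (hdet0 a))).1 h.symm
    have h2 := (hζ.pow_eq_one_iff_dvd _).1 h1
    have h3 : Module.finrank F E ≠ 0 := fun h0 => hv0 (by
      have := (Submodule.finrank_eq_zero.1 h0) ▸ (hE v).2 hv
      simpa using this)
    have h4 := Submodule.finrank_le E
    rw [Module.finrank_fin_fun] at h4
    omega
  have hCs : C = ζ • 1 := by
    apply Matrix.toLin'.injective
    refine LinearMap.ext fun w => ?_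
    have hw : w ∈ E := by
      rw [show E = ⊤ from Submodule.eq_top_of_finrank_eq (by rw [hdim, Module.finrank_fin_fun])]
      trivial
    rw [Matrix.toLin'_apply, Matrix.toLin'_apply, (hE w).1 hw, Matrix.smul_mulVec, Matrix.one_mulVec]
  have hBA : A * B = ζ • (B * A) := by rw [hAB, hCs, Matrix.smul_mul, one_mul]
  obtain ⟨i, u, hu0, hu⟩ := exists_eigen hζ (hmat a)
  have hAk : ∀ k : ℕ, A *ᵥ (B ^ k *ᵥ u) = ζ ^ (i + k) • (B ^ k *ᵥ u) := by
    intro k
    induction k with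
    | zero => simpa using hu
    | succ k ih =>
      rw [pow_succ', ← Matrix.mulVec_mulVec, Matrix.mulVec_mulVec _ A B, hBA, Matrix.smul_mulVec,
        ← Matrix.mulVec_mulVec, ih, Matrix.mulVec_smul, smul_smul, ← pow_succ', add_assoc]
  have hBne : ∀ (k : ℕ) (w : Fin 3 → F), w ≠ 0 → B ^ k *ᵥ w ≠ 0 := by
    intro k w hw h
    apply hw
    have h' := congrArg ((B ^ (2 * k)) *ᵥ ·) h
    simp only [Matrix.mulVec_mulVec, Matrix.mulVec_zero] at h'
    rwa [← pow_add, show 2 * k + k = 3 * k by ring, pow_mul, hmat b, one_pow, Matrix.one_mulVec] at h'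
  obtain ⟨P, hP, hPcol⟩ := exists_conj_dMat hζ (A := A) (fun j : Fin 3 => B ^ ((j : ℕ) + 2 * i) *ᵥ u)
    (fun j => hBne _ _ hu0) (fun j => by
      rw [hAk, show i + ((j : ℕ) + 2 * i) = 3 * i + j by ring, pow_add, pow_mul, hζ.pow_eq_one, one_pow, one_mul])
  refine ⟨⟨ζ, hζ, P, a, b, c, a.2, b.2, c.2, hCs, hP, ?_, ?_⟩⟩
  · ext k j
    rw [Matrix.mul_apply]
    have hcol : ∀ j, ∑ l, B k l * (P : Matrix (Fin 3) (Fin 3) F) l j = (B ^ ((j : ℕ) + 2 * i + 1) *ᵥ u) k := fun j => by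
      simp only [hPcol]
      rw [pow_succ', ← Matrix.mulVec_mulVec]
      rfl
    rw [hcol]
    have hb3 : ∀ m, B ^ (m + 3) = B ^ m := fun m => by rw [pow_add, hmat b, mul_one]
    fin_cases j <;> simp [Matrix.mul_apply, Fin.sum_univ_three, sMat, hPcol]
    · rw [show 2 * i + 1 = 1 + 2 * i by ring]
    · rw [show 1 + 2 * i + 1 = 2 + 2 * i by ring]
    · rw [show 2 + 2 * i + 1 = 2 * i + 3 by ring, hb3]
  · -- generation
    set K := Subgroup.closure {(a : GL (Fin 3) F), (b : GL (Fin 3) F)} with hK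
    have hle : K ≤ R := by
      rw [hK, Subgroup.closure_le]
      rintro _ (rfl | rfl)
      · exact a.2
      · exact b.2
    have haK : (a : GL (Fin 3) F) ∈ K := Subgroup.subset_closure (Set.mem_insert _ _)
    have hbK : (b : GL (Fin 3) F) ∈ K := Subgroup.subset_closure (Set.mem_insert_of_mem _ rfl)
    haveI : Finite K := Finite.of_injective (Subgroup.inclusion hle) (Subgroup.inclusion_injective hle)
    have hd := Subgroup.card_dvd_of_le hle
    rw [hR, show (27 : ℕ) = 3 ^ 3 from rfl] at hd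
    obtain ⟨j, hj, hj'⟩ := (Nat.dvd_prime_pow (by norm_num)).1 hd
    have hnc : ¬ ∀ x y : K, x * y = y * x := fun h => hab (Subtype.ext (congrArg (fun x : K => (x : GL (Fin 3) F)) (h ⟨_, haK⟩ ⟨_, hbK⟩)))
    have hj3 : j = 3 := by
      rcases (by omega : j = 0 ∨ j = 1 ∨ j = 2 ∨ j = 3) with rfl | rfl | rfl | rfl
      · exfalso; apply hnc; intro x y
        haveI := (Nat.card_eq_one_iff_unique.1 hj').1
        exact Subsingleton.elim _ _
      · exfalso; apply hnc
        haveI : IsCyclic K := isCyclic_of_prime_card (p := 3) (by rw [hj', pow_one])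
        letI := IsCyclic.commGroup (α := K)
        exact fun x y => mul_comm x y
      · exact absurd (IsPGroup.commutative_of_card_eq_prime_sq hj') hnc
      · rfl
    exact (Subgroup.eq_of_le_of_card_ge hle (by rw [hR, hj', hj3]; norm_num)).symm

namespace Frame

variable {R : Subgroup (GL (Fin 3) F)} (Φ : Frame R)
include Φ

theorem le_specialLinear : R ≤ Cfsg.Geo.specialLinear (Fin 3) F := by
  rw [Φ.gen, Subgroup.closure_le]
  have hP : (Φ.P : Matrix (Fin 3) (Fin 3) F).det ≠ 0 := (Φ.P.isUnit.map Matrix.detMonoidHom).ne_zero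
  rintro _ (rfl | rfl)
  · have h := congrArg Matrix.det Φ.haP
    rw [Matrix.det_mul, Matrix.det_mul, det_dMat Φ.hω, mul_one] at h
    exact Units.ext ((mul_eq_right₀ hP).1 h)
  · have h := congrArg Matrix.det Φ.hbP
    rw [Matrix.det_mul, Matrix.det_mul, det_sMat, mul_one] at h
    exact Units.ext ((mul_eq_right₀ hP).1 h)

/-- criterion for the normaliser -/
theorem mem_normalizer [Finite R] (h : GL (Fin 3) F) (h1 : h * Φ.a * h⁻¹ ∈ R) (h2 : h * Φ.b * h⁻¹ ∈ R) :
    h ∈ Cfsg.Geo.subgroupNormalizer R := by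
  let f : R →* R := MonoidHom.codRestrict ((MulAut.conj h).toMonoidHom.comp R.subtype) R (fun g => by
    have hle : R ≤ R.comap (MulAut.conj h).toMonoidHom := by
      conv_lhs => rw [Φ.gen]
      rw [Subgroup.closure_le]
      rintro _ (rfl | rfl)
      · exact h1
      · exact h2
    exact hle g.2)
  have hinj : Function.Injective f := fun x y hxy => by
    have h' := congrArg Subtype.val hxy
    exact Subtype.ext ((MulAut.conj h).injective h')
  have hsurj := Finite.surjective_of_injective hinj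
  show h ∈ Subgroup.normalizer (R : Set (GL (Fin 3) F))
  rw [Subgroup.mem_normalizer_iff]
  intro g
  constructor
  · intro hg; exact (f ⟨g, hg⟩).2
  · intro hg
    obtain ⟨g', hg'⟩ := hsurj ⟨_, hg⟩
    have h' : h * (g' : GL (Fin 3) F) * h⁻¹ = h * g * h⁻¹ := congrArg Subtype.val hg'
    rw [← mul_left_cancel (mul_right_cancel h')]
    exact g'.2

/-- what commutes with `R` is scalar -/
theorem scalar_of_commute_all {h : GL (Fin 3) F} (hc : ∀ g ∈ R, h * g = g * h) :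
    ∃ c : F, (h : Matrix (Fin 3) (Fin 3) F) = c • 1 := by
  set P := (Φ.P : Matrix (Fin 3) (Fin 3) F)
  set Q := ((Φ.P⁻¹ : GL (Fin 3) F) : Matrix (Fin 3) (Fin 3) F)
  have hPQ : P * Q = 1 := by rw [← Units.val_mul, mul_inv_cancel, Units.val_one]
  have hQP : Q * P = 1 := by rw [← Units.val_mul, inv_mul_cancel, Units.val_one]
  have key : ∀ (g : GL (Fin 3) F) (M : Matrix (Fin 3) (Fin 3) F), g ∈ R → (g : Matrix (Fin 3) (Fin 3) F) * P = P * M →
      Q * h * P * M = M * (Q * h * P) := by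
    intro g M hg hgM
    have hM : M = Q * g * P := by rw [mul_assoc, hgM, ← mul_assoc, hQP, one_mul]
    have e : (h : Matrix (Fin 3) (Fin 3) F) * g = g * h := by rw [← Units.val_mul, hc g hg, Units.val_mul]
    rw [hM]
    calc Q * h * P * (Q * g * P) = Q * (h * g) * P := by simp only [mul_assoc]; rw [← mul_assoc P Q, hPQ, one_mul]
      _ = Q * g * P * (Q * h * P) := by rw [e]; simp only [mul_assoc]; rw [← mul_assoc P Q, hPQ, one_mul]
  have hs := scalar_of_commute Φ.hω (key _ _ Φ.ha Φ.haP) (key _ _ Φ.hb Φ.hbP)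
  refine ⟨(Q * h * P) 0 0, ?_⟩
  calc (h : Matrix (Fin 3) (Fin 3) F) = P * (Q * h * P) * Q := by
        simp only [mul_assoc]; rw [hPQ, mul_one, ← mul_assoc, hPQ, one_mul]
    _ = _ := by rw [hs]; simp [hPQ]

/-- normalising elements of prime order at least five commute with `R` -/
theorem commute_of_order (hR : Nat.card R = 27) {r : ℕ} [Fact r.Prime] (hr : 5 ≤ r) {h : GL (Fin 3) F}
    (hn : h ∈ Cfsg.Geo.subgroupNormalizer R) (hh : h ^ r = 1) : ∀ g ∈ R, h * g = g * h := by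
  classical
  haveI : Finite R := Nat.finite_of_card_ne_zero (by omega)
  haveI := Fintype.ofFinite R
  have hrp : r.Prime := Fact.out
  have hmem : ∀ g ∈ R, h * g * h⁻¹ ∈ R := fun g hg => (Subgroup.mem_normalizer_iff.1 hn g).1 hg
  let f : Function.End R := fun g => ⟨h * g * h⁻¹, hmem g g.2⟩
  have hfk : ∀ (k : ℕ) (g : R), ((f ^ k : Function.End R) g : GL (Fin 3) F) = h ^ k * g * (h ^ k)⁻¹ := by
    intro k
    induction k with
    | zero => intro g; simp [Function.End.one_def]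
    | succ k ih =>
      intro g
      rw [pow_succ f]
      show ((f ^ k : Function.End R) (f g) : GL (Fin 3) F) = _
      rw [ih, pow_succ h, mul_inv_rev]
      show h ^ k * (h * g * h⁻¹) * (h ^ k)⁻¹ = _
      simp only [mul_assoc]
  have hf : f ^ r ^ 1 = 1 := funext fun g => Subtype.ext (by rw [hfk, pow_one, hh]; simp; rfl)
  have hmod := Equiv.Perm.card_fixedPoints_modEq hf
  let Cz : Subgroup R := (Subgroup.centralizer ({h} : Set (GL (Fin 3) F))).subgroupOf R
  have hfix : Fintype.card f.fixedPoints = Nat.card Cz := by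
    rw [← Nat.card_eq_fintype_card]
    refine Nat.card_congr (Equiv.subtypeEquivRight fun g => ?_)
    rw [Function.mem_fixedPoints_iff, Subgroup.mem_subgroupOf, Subgroup.mem_centralizer_singleton_iff]
    constructor
    · intro hg
      have hg' : h * g * h⁻¹ = (g : GL (Fin 3) F) := congrArg Subtype.val hg
      rw [mul_inv_eq_iff_eq_mul] at hg'
      first | exact hg' | exact hg'.symm
    · intro hg
      apply Subtype.ext
      show h * g * h⁻¹ = g
      rw [mul_inv_eq_iff_eq_mul]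
      first | exact hg | exact hg.symm
  rw [hfix, ← Nat.card_eq_fintype_card, hR] at hmod
  have hzC : (⟨Φ.z, Φ.hzR⟩ : R) ∈ Cz := by
    rw [Subgroup.mem_subgroupOf, Subgroup.mem_centralizer_singleton_iff]
    apply Units.ext
    simp [Φ.hz]
  have hz1 : (⟨Φ.z, Φ.hzR⟩ : R) ≠ 1 := fun e => by
    have e' : (Φ.z : Matrix (Fin 3) (Fin 3) F) = 1 := congrArg (fun x : R => ((x : GL (Fin 3) F) : Matrix (Fin 3) (Fin 3) F)) e
    rw [Φ.hz] at e'
    have := congrFun (congrFun e' 0) 0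
    simp at this
    exact Φ.hω.ne_one (by norm_num) this
  have hd := Subgroup.card_subgroup_dvd_card Cz
  rw [hR, show (27 : ℕ) = 3 ^ 3 from rfl] at hd
  obtain ⟨j, hj, hj'⟩ := (Nat.dvd_prime_pow (by norm_num)).1 hd
  rw [hj'] at hmod
  have hj0 : j ≠ 0 := by
    rintro rfl
    haveI := (Nat.card_eq_one_iff_unique.1 hj').1
    exact hz1 (congrArg Subtype.val (Subsingleton.elim (⟨_, hzC⟩ : Cz) 1))
  have hj3 : j = 3 := by
    have h2 := (Nat.modEq_iff_dvd' (Nat.pow_le_pow_right (by norm_num : 0 < 3) hj)).1 hmod.symm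
    rcases (by omega : j = 1 ∨ j = 2 ∨ j = 3) with rfl | rfl | rfl
    · exfalso
      rw [show (3 : ℕ) ^ 3 - 3 ^ 1 = 2 * 2 * 2 * 3 by norm_num] at h2
      rcases (Nat.Prime.dvd_mul hrp).1 h2 with h2 | h2
      · rcases (Nat.Prime.dvd_mul hrp).1 h2 with h2 | h2
        · rcases (Nat.Prime.dvd_mul hrp).1 h2 with h2 | h2 <;> exact absurd (Nat.le_of_dvd (by norm_num) h2) (by omega)
        · exact absurd (Nat.le_of_dvd (by norm_num) h2) (by omega)
      · exact absurd (Nat.le_of_dvd (by norm_num) h2) (by omega)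
    · exfalso
      rw [show (3 : ℕ) ^ 3 - 3 ^ 2 = 2 * (3 * 3) by norm_num] at h2
      rcases (Nat.Prime.dvd_mul hrp).1 h2 with h2 | h2
      · exact absurd (Nat.le_of_dvd (by norm_num) h2) (by omega)
      · rcases (Nat.Prime.dvd_mul hrp).1 h2 with h2 | h2 <;> exact absurd (Nat.le_of_dvd (by norm_num) h2) (by omega)
    · rfl
  have htop : Cz = ⊤ := Subgroup.eq_top_of_card_eq Cz (by rw [hj', hj3, hR]; norm_num)
  intro g hg
  have : (⟨g, hg⟩ : R) ∈ Cz := htop ▸ Subgroup.mem_top _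
  rw [Subgroup.mem_subgroupOf, Subgroup.mem_centralizer_singleton_iff] at this
  first | exact this | exact this.symm

/-- conjugate back from the adapted basis -/
theorem conj_mem {h : GL (Fin 3) F} {M : Matrix (Fin 3) (Fin 3) F}
    (hh : (h : Matrix (Fin 3) (Fin 3) F) * Φ.P = (Φ.P : Matrix (Fin 3) (Fin 3) F) * M)
    {g g' : GL (Fin 3) F} {N N' : Matrix (Fin 3) (Fin 3) F}
    (hg : (g : Matrix (Fin 3) (Fin 3) F) * Φ.P = (Φ.P : Matrix (Fin 3) (Fin 3) F) * N)
    (hg' : (g' : Matrix (Fin 3) (Fin 3) F) * Φ.P = (Φ.P : Matrix (Fin 3) (Fin 3) F) * N')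
    (hmul : M * N = N' * M) : h * g * h⁻¹ = g' := by
  rw [mul_inv_eq_iff_eq_mul]
  apply Units.ext
  apply Φ.P.isUnit.mul_right_cancel
  simp only [Units.val_mul, mul_assoc]
  rw [hg, hh, ← mul_assoc, hh, mul_assoc, hmul, ← mul_assoc (g' : Matrix (Fin 3) (Fin 3) F), hg', mul_assoc]

/-- an involution normalising `R` -/
theorem exists_involution [Finite R] :
    ∃ h : GL (Fin 3) F, h ∈ Cfsg.Geo.subgroupNormalizer R ∧ (h : Matrix (Fin 3) (Fin 3) F) * h = 1 ∧
      (h : Matrix (Fin 3) (Fin 3) F).det = 1 ∧ (∀ c : F, (h : Matrix (Fin 3) (Fin 3) F) ≠ c • 1) ∧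
      (h : Matrix (Fin 3) (Fin 3) F) * (Φ.P : Matrix (Fin 3) (Fin 3) F) =
        (Φ.P : Matrix (Fin 3) (Fin 3) F) * !![-1, 0, 0; 0, 0, -1; 0, -1, 0] := by
  let W : Matrix (Fin 3) (Fin 3) F := !![-1, 0, 0; 0, 0, -1; 0, -1, 0]
  have hW2 : W * W = 1 := by
    ext i j; fin_cases i <;> fin_cases j <;> simp [W, Matrix.mul_apply, Fin.sum_univ_three]
  let Wu : GL (Fin 3) F := ⟨W, W, hW2, hW2⟩
  let h : GL (Fin 3) F := Φ.P * Wu * Φ.P⁻¹
  have hh : (h : Matrix (Fin 3) (Fin 3) F) * Φ.P = (Φ.P : Matrix (Fin 3) (Fin 3) F) * W := by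
    simp [h, mul_assoc, Wu]
  refine ⟨h, Φ.mem_normalizer h ?_ ?_, ?_, ?_, fun c hc => ?_, hh⟩
  · have hsq : ((Φ.a * Φ.a : GL (Fin 3) F) : Matrix (Fin 3) (Fin 3) F) * (Φ.P : Matrix (Fin 3) (Fin 3) F) =
        (Φ.P : Matrix (Fin 3) (Fin 3) F) * (dMat Φ.ω * dMat Φ.ω) := by
      rw [Units.val_mul, mul_assoc, Φ.haP, ← mul_assoc, Φ.haP, mul_assoc]
    rw [Φ.conj_mem hh Φ.haP hsq (by
      have h4 : Φ.ω ^ 4 = Φ.ω := by rw [pow_succ, Φ.hω.pow_eq_one, one_mul]
      ext i j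
      fin_cases i <;> fin_cases j <;> simp [W, dMat, Matrix.mul_apply, Fin.sum_univ_three, Matrix.diagonal_apply] <;>
        (first | linear_combination h4 | linear_combination -h4 | ring))]
    exact mul_mem Φ.ha Φ.ha
  · have hsq : ((Φ.b * Φ.b : GL (Fin 3) F) : Matrix (Fin 3) (Fin 3) F) * (Φ.P : Matrix (Fin 3) (Fin 3) F) =
        (Φ.P : Matrix (Fin 3) (Fin 3) F) * (sMat * sMat) := by
      rw [Units.val_mul, mul_assoc, Φ.hbP, ← mul_assoc, Φ.hbP, mul_assoc]
    rw [Φ.conj_mem hh Φ.hbP hsq (by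
      ext i j
      fin_cases i <;> fin_cases j <;> simp [W, sMat, Matrix.mul_apply, Fin.sum_univ_three])]
    exact mul_mem Φ.hb Φ.hb
  · rw [← Units.val_mul, show h * h = Φ.P * (Wu * Wu) * Φ.P⁻¹ by simp [h, mul_assoc],
      show Wu * Wu = 1 from Units.ext hW2]
    simp
  · have h' := congrArg Matrix.det hh
    rw [Matrix.det_mul, Matrix.det_mul, mul_comm] at h'
    rw [mul_left_cancel₀ (Φ.P.isUnit.map Matrix.detMonoidHom).ne_zero h', Matrix.det_fin_three]
    simp [W]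
  · rw [hc, Matrix.smul_mul, one_mul, ← mul_one (Φ.P : Matrix (Fin 3) (Fin 3) F), ← Matrix.mul_smul, mul_assoc,
      one_mul] at hh
    have h' := Φ.P.isUnit.mul_left_cancel hh
    have h12 := congrFun (congrFun h' 1) 2
    simp [W] at h12

/-- the `a`-type element times a cube root of unity, and `t diag (1, 1, ζ)` -/
theorem exists_diag [Finite R] {t ζ : F} (ht : t ≠ 0) (hζ : ζ ^ 3 = 1) :
    ∃ h : GL (Fin 3) F, h ∈ Cfsg.Geo.subgroupNormalizer R ∧
      IsModel (h : Matrix (Fin 3) (Fin 3) F) (Matrix.diagonal ![t, t, t * ζ]) ∧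
      (h : Matrix (Fin 3) (Fin 3) F) * (Φ.P : Matrix (Fin 3) (Fin 3) F) =
        (Φ.P : Matrix (Fin 3) (Fin 3) F) * Matrix.diagonal ![t, t, t * ζ] := by
  have hζ0 : ζ ≠ 0 := fun e => by simp [e] at hζ
  let M : Matrix (Fin 3) (Fin 3) F := Matrix.diagonal ![t, t, t * ζ]
  have hM : M.det ≠ 0 := by
    rw [Matrix.det_diagonal, Fin.prod_univ_three]; simp [ht, hζ0]
  let Mu : GL (Fin 3) F := Matrix.GeneralLinearGroup.mkOfDetNeZero M hM
  let h : GL (Fin 3) F := Φ.P * Mu * Φ.P⁻¹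
  have hh : (h : Matrix (Fin 3) (Fin 3) F) * Φ.P = (Φ.P : Matrix (Fin 3) (Fin 3) F) * M := by
    simp [h, mul_assoc]; rfl
  refine ⟨h, Φ.mem_normalizer h ?_ ?_, ⟨glEquiv Φ.P, fun v => ?_⟩, hh⟩
  · rw [Φ.conj_mem hh Φ.haP Φ.haP (by
      rw [dMat, Matrix.diagonal_mul_diagonal, Matrix.diagonal_mul_diagonal]
      exact congrArg _ (funext fun _ => mul_comm _ _))]
    exact Φ.ha
  · -- `h b h⁻¹ = z^k a^j b`
    obtain ⟨k, hk, rfl⟩ := Φ.hω.eq_pow_of_pow_eq_one hζ
    let g' : GL (Fin 3) F := Φ.z ^ (2 * k) * Φ.a ^ k * Φ.b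
    have hak : ∀ m : ℕ, ((Φ.a ^ m : GL (Fin 3) F) : Matrix (Fin 3) (Fin 3) F) * (Φ.P : Matrix (Fin 3) (Fin 3) F) =
        (Φ.P : Matrix (Fin 3) (Fin 3) F) * dMat Φ.ω ^ m := by
      intro m
      induction m with
      | zero => simp
      | succ m ih => rw [pow_succ, Units.val_mul, mul_assoc, Φ.haP, ← mul_assoc, ih, mul_assoc, ← pow_succ]
    have hg' : (g' : Matrix (Fin 3) (Fin 3) F) * (Φ.P : Matrix (Fin 3) (Fin 3) F) =
        (Φ.P : Matrix (Fin 3) (Fin 3) F) * (Φ.ω ^ (2 * k) • (dMat Φ.ω ^ k * sMat)) := by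
      simp only [g', Units.val_mul, Units.val_pow_eq_pow_val, Φ.hz, _root_.smul_pow, one_pow, Matrix.smul_mul, one_mul]
      rw [mul_assoc, Φ.hbP, ← mul_assoc, ← Units.val_pow_eq_pow_val, hak, mul_assoc, Matrix.mul_smul]
    rw [Φ.conj_mem hh Φ.hbP hg' (by
      rw [dMat, Matrix.diagonal_pow]
      have h3 : (Φ.ω ^ k) ^ 3 = 1 := hζ
      ext i j
      fin_cases i <;> fin_cases j <;>
        simp [M, sMat, Matrix.mul_apply, Fin.sum_univ_three, Matrix.diagonal_apply, pow_mul', mul_pow] <;>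
        (first
          | linear_combination t * h3 | linear_combination -t * h3
          | linear_combination t * (Φ.ω ^ k) * h3 | linear_combination -t * (Φ.ω ^ k) * h3
          | linear_combination t * (Φ.ω ^ k) ^ 2 * h3 | linear_combination -t * (Φ.ω ^ k) ^ 2 * h3
          | ring))]
    exact mul_mem (mul_mem (pow_mem Φ.hzR _) (pow_mem Φ.ha _)) Φ.hb
  · rw [glEquiv_apply, glEquiv_apply]
    rw [Matrix.mulVec_mulVec, hh, Matrix.mulVec_mulVec]

/-- scalar multiples of `a` -/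
theorem exists_dmodel [Finite R] {t : F} (ht : t ≠ 0) :
    ∃ h : GL (Fin 3) F, h ∈ Cfsg.Geo.subgroupNormalizer R ∧
      IsModel (h : Matrix (Fin 3) (Fin 3) F) (t • dMat Φ.ω) ∧
      (h : Matrix (Fin 3) (Fin 3) F) * (Φ.P : Matrix (Fin 3) (Fin 3) F) =
        (Φ.P : Matrix (Fin 3) (Fin 3) F) * (t • dMat Φ.ω) := by
  let s : GL (Fin 3) F := Matrix.GeneralLinearGroup.scalar (Fin 3) (Units.mk0 t ht)
  refine ⟨s * Φ.a, mul_mem ?_ (Subgroup.le_normalizer Φ.ha),
    ⟨glEquiv Φ.P, fun v => ?_⟩, ?_⟩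
  · refine Φ.mem_normalizer s ?_ ?_
    · rw [show s * Φ.a * s⁻¹ = Φ.a from by
        rw [mul_inv_eq_iff_eq_mul]; apply Units.ext
        simp [s, ← Matrix.smul_one_eq_diagonal]]
      exact Φ.ha
    · rw [show s * Φ.b * s⁻¹ = Φ.b from by
        rw [mul_inv_eq_iff_eq_mul]; apply Units.ext
        simp [s, ← Matrix.smul_one_eq_diagonal]]
      exact Φ.hb
  · rw [glEquiv_apply, glEquiv_apply]
    rw [Matrix.mulVec_mulVec, Units.val_mul, mul_assoc, Φ.haP, Matrix.mulVec_mulVec]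
    simp [s, ← Matrix.smul_one_eq_diagonal]
  · rw [Units.val_mul, mul_assoc, Φ.haP]
    simp [s, ← Matrix.smul_one_eq_diagonal]

end Frame

/-- the order of `SL_3` has three-part 27 when `q ≡ 4, 7 (mod 9)` -/
theorem not_243_dvd {q : ℕ} (h : q % 9 = 4 ∨ q % 9 = 7) :
    ¬ 243 ∣ ∏ i : Fin 3, (q ^ 3 - q ^ (i : ℕ)) := by
  intro hd
  simp only [Fin.prod_univ_three, Fin.val_zero, Fin.val_one, Fin.val_two, pow_zero, pow_one] at hd
  obtain ⟨m, rfl⟩ : ∃ m, q = 3 * m + 1 := ⟨q / 3, by omega⟩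
  have h1 : 1 ≤ 3 * m + 1 := by omega
  have e0 : (3 * m + 1) ^ 3 - 1 = 9 * m * (3 * (m * m) + 3 * m + 1) := by
    rw [Nat.sub_eq_iff_eq_add (Nat.one_le_pow _ _ h1)]; ring
  have e1 : (3 * m + 1) ^ 3 - (3 * m + 1) = 3 * ((3 * m + 1) * m * (3 * m + 2)) := by
    rw [Nat.sub_eq_iff_eq_add (Nat.le_self_pow (by norm_num) _)]; ring
  have e2 : (3 * m + 1) ^ 3 - (3 * m + 1) ^ 2 = 3 * ((3 * m + 1) * (3 * m + 1) * m) := by
    rw [Nat.sub_eq_iff_eq_add (Nat.pow_le_pow_right h1 (by norm_num))]; ring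
  rw [e0, e1, e2, show 9 * m * (3 * (m * m) + 3 * m + 1) * (3 * ((3 * m + 1) * m * (3 * m + 2))) *
    (3 * ((3 * m + 1) * (3 * m + 1) * m)) = 81 * (m * (3 * (m * m) + 3 * m + 1) * ((3 * m + 1) * m * (3 * m + 2)) *
      ((3 * m + 1) * (3 * m + 1) * m)) by ring, show (243 : ℕ) = 81 * 3 by norm_num,
    Nat.mul_dvd_mul_iff_left (by norm_num), Nat.dvd_iff_mod_eq_zero] at hd
  have hm : m % 3 = 1 ∨ m % 3 = 2 := by omega
  rcases hm with hm | hm <;> simp [Nat.mul_mod, Nat.add_mod, hm] at hd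

/-- two eigenvalues in dimension three -/
theorem exists_model_two {y : Matrix (Fin 3) (Fin 3) F} {a b : F} (hab : a ≠ b) (h2 : (2 : F) ≠ 0)
    (hy : (y - a • 1) * (y - b • 1) = 0) (hns : ∀ c : F, y ≠ c • 1) :
    IsModel y (Matrix.diagonal ![a, a, b]) ∨ IsModel y (Matrix.diagonal ![b, b, a]) := by
  set s := (a - b) / 2 with hs
  set m := (a + b) / 2 with hm
  have hexp : (y - a • 1) * (y - b • 1) = (y - m • 1) * (y - m • 1) - (s * s) • 1 := by
    simp only [sub_mul, mul_sub, Matrix.smul_mul, Matrix.mul_smul, one_mul, mul_one]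
    match_scalars <;> simp only [hs, hm] <;> field_simp <;> ring
  rw [hy, eq_comm, sub_eq_zero] at hexp
  have hss : s + s ≠ 0 := by
    rw [show s + s = a - b by rw [hs]; field_simp; ring]; exact sub_ne_zero.2 hab
  obtain ⟨k, l, hkl, hmod⟩ := exists_isModel_split hss hexp
  have hmod' : IsModel y (Matrix.diagonal (Sum.elim (fun _ : Fin k => a) (fun _ : Fin l => b))) := by
    have h := hmod.add_scalar m
    rw [sub_add_cancel] at h
    convert h using 1
    rw [Matrix.smul_one_eq_diagonal, Matrix.diagonal_add]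
    refine congrArg _ (funext fun i => ?_)
    rcases i with i | i <;> simp [hs, hm] <;> field_simp <;> ring
  rw [Fintype.card_fin] at hkl
  have hscal : ∀ (c : F) (d : Fin k ⊕ Fin l → F), (∀ i, d i = c) → IsModel y (Matrix.diagonal d) → False := by
    intro c d hd h
    obtain ⟨Φ, hΦ⟩ := h
    refine hns c (Matrix.toLin'.injective (LinearMap.ext fun v => ?_))
    obtain ⟨w, rfl⟩ := Φ.surjective v
    rw [Matrix.toLin'_apply, hΦ, show d = fun _ => c from funext hd, ← Matrix.smul_one_eq_diagonal]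
    simp [Matrix.smul_mulVec]
  rcases (by omega : (k = 0 ∧ l = 3) ∨ (k = 1 ∧ l = 2) ∨ (k = 2 ∧ l = 1) ∨ (k = 3 ∧ l = 0)) with
    ⟨rfl, rfl⟩ | ⟨rfl, rfl⟩ | ⟨rfl, rfl⟩ | ⟨rfl, rfl⟩
  · exact (hscal b _ (fun i => by rcases i with i | i <;> [exact i.elim0; rfl]) hmod').elim
  · right
    refine hmod'.diagonal_congr ((finSumFinEquiv (m := 2) (n := 1)).symm.trans (Equiv.sumComm (Fin 2) (Fin 1))) fun i => ?_
    fin_cases i <;> rfl
  · left
    refine hmod'.diagonal_congr ((finSumFinEquiv (m := 2) (n := 1)).symm) fun i => ?_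
    fin_cases i <;> rfl
  · exact (hscal a _ (fun i => by rcases i with i | i <;> [rfl; exact i.elim0]) hmod').elim

/-- classification of cube roots of one in dimension three -/
theorem three_roots {ω : F} (hω : IsPrimitiveRoot ω 3) (h2 : (2 : F) ≠ 0) {y : Matrix (Fin 3) (Fin 3) F}
    (hy : y ^ 3 = 1) (hns : ∀ c : F, y ≠ c • 1) :
    IsModel y (dMat ω) ∨ ∃ u v : F, u ^ 3 = 1 ∧ v ^ 3 = 1 ∧ IsModel y (Matrix.diagonal ![u, u, v]) := by
  by_cases hall : ∀ j : Fin 3, ∃ v, v ≠ 0 ∧ y *ᵥ v = ω ^ (j : ℕ) • v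
  · left
    choose e he hye using hall
    obtain ⟨P, hP, -⟩ := exists_conj_dMat hω e he hye
    exact ⟨glEquiv P, fun v => by
      rw [glEquiv_apply, glEquiv_apply]
      rw [Matrix.mulVec_mulVec, hP, Matrix.mulVec_mulVec]⟩
  · right
    push Not at hall
    obtain ⟨j, hj⟩ := hall
    set c := ω ^ (j : ℕ) with hc
    have hc3 : c ^ 3 = 1 := by rw [hc, ← pow_mul, mul_comm, pow_mul, hω.pow_eq_one, one_pow]
    have hω0 : ω ≠ 0 := hω.ne_zero (by norm_num)
    have hc0 : c ≠ 0 := pow_ne_zero _ hω0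
    have hω1 : ω ≠ 1 := hω.ne_one (by norm_num)
    have hq : (y - (c * ω) • 1) * (y - (c * ω ^ 2) • 1) = 0 := by
      have hprod : (y - c • 1) * ((y - (c * ω) • 1) * (y - (c * ω ^ 2) • 1)) = 0 := by
        have hexp : (y - c • 1) * ((y - (c * ω) • 1) * (y - (c * ω ^ 2) • 1)) =
            y ^ 3 - (c * (1 + ω + ω ^ 2)) • y ^ 2 + (c * c * ω * (1 + ω + ω ^ 2)) • y - (c ^ 3 * ω ^ 3) • 1 := by
          simp only [sub_mul, mul_sub, Matrix.smul_mul, Matrix.mul_smul, one_mul, mul_one, pow_succ, pow_zero]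
          simp only [mul_assoc]
          module
        rw [hexp, sum_eq_zero hω, hy, hω.pow_eq_one, hc3]
        simp
      apply Matrix.toLin'.injective
      refine LinearMap.ext fun v => ?_
      rw [Matrix.toLin'_apply, map_zero, LinearMap.zero_apply]
      by_contra hv
      refine hj _ hv ?_
      have h := congrArg (· *ᵥ v) hprod
      simp only [← Matrix.mulVec_mulVec, Matrix.zero_mulVec] at h
      rw [Matrix.sub_mulVec, sub_eq_zero, Matrix.smul_mulVec, Matrix.one_mulVec] at h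
      rw [← Matrix.mulVec_mulVec]
      exact h
    have hne : c * ω ≠ c * ω ^ 2 := fun e => hω1 (by
      have e' := mul_left_cancel₀ hc0 e
      rw [pow_two] at e'
      exact ((mul_eq_left₀ hω0).1 e'.symm))
    have h31 : (c * ω) ^ 3 = 1 := by rw [mul_pow, hc3, hω.pow_eq_one, one_mul]
    have h32 : (c * ω ^ 2) ^ 3 = 1 := by rw [mul_pow, hc3, ← pow_mul, mul_comm 2, pow_mul, hω.pow_eq_one]; simp
    rcases exists_model_two hne h2 hq hns with h | h
    · exact ⟨_, _, h31, h32, h⟩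
    · exact ⟨_, _, h32, h31, h⟩

end Cfsg.Agent.Lib.LinClasses.Heisenberg
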