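import Mathlib

/-! Scaling one block of a nilpotent matrix: determinants of centralizing elements; rank under field maps. -/
set_option autoImplicit false

namespace Cfsg.Agent.Lib.LinClasses

open Matrix

variable {F : Type*} [Field F] {n : ℕ}

/-- the rank does not change under a field homomorphism -/
theorem rank_map_field {K : Type*} [Field K] (f : K →+* F) (A : Matrix (Fin n) (Fin n) K) :
    (A.map f).rank = A.rank := by
  classical
  obtain ⟨L, L', D, h⟩ := Pivot.exists_list_transvec_mul_diagonal_mul_list_transvec A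
  set P := (L.map TransvectionStruct.toMatrix).prod
  set Q := (L'.map TransvectionStruct.toMatrix).prod
  have hP : IsUnit P.det := by simp [P, TransvectionStruct.det_toMatrix_prod]
  have hQ : IsUnit Q.det := by simp [Q, TransvectionStruct.det_toMatrix_prod]
  have hP' : IsUnit (P.map f).det := by
    rw [show P.map f = f.mapMatrix P from rfl, ← RingHom.map_det]
    exact hP.map f
  have hQ' : IsUnit (Q.map f).det := by
    rw [show Q.map f = f.mapMatrix Q from rfl, ← RingHom.map_det]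
    exact hQ.map f
  rw [h, Matrix.map_mul, Matrix.map_mul, diagonal_map (map_zero f), rank_mul_eq_left_of_isUnit_det _ _ hQ',
    rank_mul_eq_right_of_isUnit_det _ _ hP', rank_mul_eq_left_of_isUnit_det _ _ hQ,
    rank_mul_eq_right_of_isUnit_det _ _ hP, rank_diagonal, rank_diagonal]
  exact Fintype.card_congr (Equiv.subtypeEquivRight fun i => (map_ne_zero f))

/-- scaling one block -/
theorem exists_block_scaling (N : Matrix (Fin n) (Fin n) F) (j : ℕ) (v φ : Fin n → F)
    (hv : (N ^ (j + 1)) *ᵥ v = 0) (hφ : φ ᵥ* (N ^ (j + 1)) = 0)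
    (hδ : ∀ e, e ≤ 2 * j → φ ⬝ᵥ ((N ^ e) *ᵥ v) = if e = j then 1 else 0) {s : F} (hs : s ≠ 0) :
    ∃ g : GL (Fin n) F, Commute (g : Matrix (Fin n) (Fin n) F) N ∧ (g : Matrix (Fin n) (Fin n) F).det = s ^ (j + 1) := by
  let U : Matrix (Fin n) (Fin (j + 1)) F := Matrix.of fun a i => ((N ^ (i : ℕ)) *ᵥ v) a
  let V : Matrix (Fin (j + 1)) (Fin n) F := Matrix.of fun i a => (φ ᵥ* (N ^ (j - i : ℕ))) a
  have hVU : V * U = 1 := by
    ext i l
    have h1 : (V * U) i l = (φ ᵥ* (N ^ (j - i : ℕ))) ⬝ᵥ ((N ^ (l : ℕ)) *ᵥ v) := rfl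
    have hi := i.2
    have hl := l.2
    rw [h1, ← dotProduct_mulVec, mulVec_mulVec, ← pow_add, hδ _ (by omega), one_apply]
    simp only [Fin.ext_iff]
    exact if_congr (by omega) rfl rfl
  let T : ℕ → Matrix (Fin n) (Fin n) F := fun i => N ^ i * vecMulVec v φ * N ^ (j + 1 - i)
  have hUV : U * V = ∑ i : Fin (j + 1), N ^ (i : ℕ) * vecMulVec v φ * N ^ (j - i : ℕ) := by
    ext a b
    rw [mul_apply, Matrix.sum_apply]
    refine Finset.sum_congr rfl fun i _ => ?_
    rw [mul_vecMulVec, vecMulVec_mul]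
    rfl
  have h0 : T 0 = 0 := by
    show N ^ 0 * vecMulVec v φ * N ^ (j + 1 - 0) = 0
    rw [pow_zero, one_mul, Nat.sub_zero, vecMulVec_mul, hφ, vecMulVec_zero]
  have h1 : T (j + 1) = 0 := by
    show N ^ (j + 1) * vecMulVec v φ * N ^ (j + 1 - (j + 1)) = 0
    rw [Nat.sub_self, pow_zero, mul_one, mul_vecMulVec, hv, zero_vecMulVec]
  have hcomm : N * (U * V) = U * V * N := by
    have e1 : N * (U * V) = ∑ i ∈ Finset.range (j + 1), T (i + 1) := by
      rw [hUV, Finset.mul_sum, ← Fin.sum_univ_eq_sum_range]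
      refine Finset.sum_congr rfl fun i _ => ?_
      show _ = N ^ ((i : ℕ) + 1) * vecMulVec v φ * N ^ (j + 1 - ((i : ℕ) + 1))
      rw [pow_succ', show j + 1 - ((i : ℕ) + 1) = j - i by omega]
      simp only [mul_assoc]
    have e2 : U * V * N = ∑ i ∈ Finset.range (j + 1), T i := by
      rw [hUV, Finset.sum_mul, ← Fin.sum_univ_eq_sum_range]
      refine Finset.sum_congr rfl fun i _ => ?_
      have hi := i.2
      show _ = N ^ (i : ℕ) * vecMulVec v φ * N ^ (j + 1 - (i : ℕ))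
      rw [mul_assoc _ _ N, ← pow_succ, show j - (i : ℕ) + 1 = j + 1 - i by omega]
    rw [e1, e2]
    have := Finset.sum_range_succ' T (j + 1)
    rw [Finset.sum_range_succ, h1, h0, add_zero, add_zero] at this
    exact this.symm
  let G : Matrix (Fin n) (Fin n) F := 1 + ((s - 1) • U) * V
  have hdet : G.det = s ^ (j + 1) := by
    rw [show G.det = (1 + V * ((s - 1) • U)).det from det_one_add_mul_comm _ _, Matrix.mul_smul, hVU,
      show (1 : Matrix (Fin (j + 1)) (Fin (j + 1)) F) + (s - 1) • 1 = s • 1 by rw [sub_smul, one_smul]; abel,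
      det_smul, det_one, mul_one, Fintype.card_fin]
  refine ⟨G.nonsingInvUnit (by rw [hdet]; exact (isUnit_iff_ne_zero.2 hs).pow _), ?_, hdet⟩
  show G * N = N * G
  simp only [G, add_mul, mul_add, one_mul, mul_one, smul_mul, mul_smul_comm, smul_mul_assoc, hcomm]

/-- determinants of centralizing elements of a nilpotent matrix of height at most three, cubes surjective -/
theorem exists_commute_det (N : Matrix (Fin n) (Fin n) F) (hN : N ^ 3 = 0) (hcube : ∀ t : F, ∃ s, s ^ 3 = t)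
    (hns : ¬ (N ^ 2 = 0 ∧ 2 * N.rank = n)) {t : F} (ht : t ≠ 0) :
    ∃ g : GL (Fin n) F, Commute (g : Matrix (Fin n) (Fin n) F) N ∧ (g : Matrix (Fin n) (Fin n) F).det = t := by
  classical
  by_cases h2 : N ^ 2 = 0
  · -- a block of size one
    have hle : LinearMap.range (toLin' N) ≤ LinearMap.ker (toLin' N) := by
      rintro _ ⟨w, rfl⟩
      rw [LinearMap.mem_ker, toLin'_apply, toLin'_apply, mulVec_mulVec, ← pow_two, h2, zero_mulVec]
    have hne : LinearMap.range (toLin' N) ≠ LinearMap.ker (toLin' N) := by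
      intro h
      apply hns
      refine ⟨h2, ?_⟩
      have h3 := LinearMap.finrank_range_add_finrank_ker (toLin' N)
      rw [← h, Module.finrank_fin_fun] at h3
      rw [two_mul]
      exact h3
    obtain ⟨v, hvk, hvr⟩ := SetLike.exists_of_lt (lt_of_le_of_ne hle hne)
    obtain ⟨ψ, hψv, hψr⟩ := Submodule.exists_dual_map_eq_bot_of_notMem hvr inferInstance
    let φ : Fin n → F := fun i => (ψ v)⁻¹ * ψ (Pi.single i 1)
    have hφ : ∀ w, φ ⬝ᵥ w = (ψ v)⁻¹ * ψ w := fun w => by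
      rw [show ψ w = ∑ i, w i * ψ (Pi.single i 1) from LinearMap.pi_apply_eq_sum_univ ψ w |>.trans
        (Finset.sum_congr rfl fun i _ => by rw [smul_eq_mul]; congr 2; funext a; simp [Pi.single_apply, eq_comm]),
        Finset.mul_sum]
      exact Finset.sum_congr rfl fun i _ => by simp only [φ]; ring
    obtain ⟨g, hg, hgd⟩ := exists_block_scaling N 0 v φ (by
        rw [zero_add, pow_one]; exact hvk)
      (by
        rw [zero_add, pow_one]
        funext i
        show (φ ᵥ* N) i = 0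
        rw [show (φ ᵥ* N) i = φ ⬝ᵥ (N *ᵥ Pi.single i 1) by simp [vecMul, dotProduct], hφ]
        have hmem : ψ (N *ᵥ Pi.single i 1) ∈ (LinearMap.range (toLin' N)).map ψ :=
          ⟨_, ⟨Pi.single i 1, rfl⟩, by rw [toLin'_apply]⟩
        rw [hψr, Submodule.mem_bot] at hmem
        rw [hmem, mul_zero])
      (fun e he => by
        obtain rfl : e = 0 := by omega
        rw [pow_zero, one_mulVec, hφ, inv_mul_cancel₀ hψv, if_pos rfl]) ht
    exact ⟨g, hg, by rw [hgd, zero_add, pow_one]⟩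
  · -- a block of size three
    obtain ⟨v₀, hv₀⟩ : ∃ v, N ^ 2 *ᵥ v ≠ 0 := by
      by_contra h
      push Not at h
      exact h2 (Matrix.ext_of_mulVec_single fun i => by rw [h, zero_mulVec])
    obtain ⟨a, ha⟩ := Function.ne_iff.1 hv₀
    let φ : Fin n → F := Pi.single a ((N ^ 2 *ᵥ v₀) a)⁻¹
    have hφ2 : φ ⬝ᵥ (N ^ 2 *ᵥ v₀) = 1 := by simp [φ, inv_mul_cancel₀ ha]
    let c₁ := φ ⬝ᵥ (N *ᵥ v₀)
    let c₀ := φ ⬝ᵥ v₀ - c₁ * c₁
    let v := v₀ - c₁ • (N *ᵥ v₀) - c₀ • (N ^ 2 *ᵥ v₀)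
    obtain ⟨s, hs⟩ := hcube t
    have hs0 : s ≠ 0 := fun h => ht (by rw [← hs, h]; simp)
    have hz : ∀ e, 3 ≤ e → ∀ w, N ^ e *ᵥ w = 0 := fun e he w => by
      rw [← Nat.sub_add_cancel he, pow_add, hN, mul_zero, zero_mulVec]
    have hev : ∀ e, φ ⬝ᵥ (N ^ e *ᵥ v) =
        φ ⬝ᵥ (N ^ e *ᵥ v₀) - c₁ * (φ ⬝ᵥ (N ^ (e + 1) *ᵥ v₀)) - c₀ * (φ ⬝ᵥ (N ^ (e + 2) *ᵥ v₀)) := fun e => by
      simp only [v, mulVec_sub, mulVec_smul, dotProduct_sub, dotProduct_smul, smul_eq_mul, mulVec_mulVec,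
        ← pow_succ, ← pow_add]
    obtain ⟨g, hg, hgd⟩ := exists_block_scaling N 2 v φ (by rw [hN, zero_mulVec]) (by rw [hN, vecMul_zero])
      (fun e he => by
        rw [hev]
        have he' : e ≤ 4 := he
        interval_cases e
        · simp only [pow_zero, one_mulVec, zero_add, pow_one, hφ2, c₀, c₁]; simp
        · simp only [pow_one, hφ2, hz 3 le_rfl, dotProduct_zero, c₁]; simp
        · simp only [hφ2, hz 3 le_rfl, hz 4 (by omega), dotProduct_zero]; simp
        · simp [hz 3 le_rfl, hz 4 (by omega), hz 5 (by omega)]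
        · simp [hz 4 (by omega), hz 5 (by omega), hz 6 (by omega)]) hs0
    exact ⟨g, hg, hgd.trans hs⟩

/-- squares are reached when all blocks have size two -/
theorem exists_commute_det_sq (N : Matrix (Fin n) (Fin n) F) (hN : N ^ 2 = 0) (hN0 : N ≠ 0) {s : F} (hs : s ≠ 0) :
    ∃ g : GL (Fin n) F, Commute (g : Matrix (Fin n) (Fin n) F) N ∧ (g : Matrix (Fin n) (Fin n) F).det = s ^ 2 := by
  classical
  obtain ⟨v₀, hv₀⟩ : ∃ v, N *ᵥ v ≠ 0 := by
    by_contra h
    push Not at h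
    exact hN0 (Matrix.ext_of_mulVec_single fun i => by rw [h, zero_mulVec])
  obtain ⟨a, ha⟩ := Function.ne_iff.1 hv₀
  let φ : Fin n → F := Pi.single a ((N *ᵥ v₀) a)⁻¹
  have hφ1 : φ ⬝ᵥ (N *ᵥ v₀) = 1 := by simp [φ, inv_mul_cancel₀ ha]
  let v := v₀ - (φ ⬝ᵥ v₀) • (N *ᵥ v₀)
  refine exists_block_scaling N 1 v φ (by rw [hN, zero_mulVec]) (by rw [hN, vecMul_zero]) (fun e he => ?_) hs
  have he' : e ≤ 2 := he
  interval_cases e
  · simp [v, dotProduct_sub, hφ1]
  · have hNN : N *ᵥ (N *ᵥ v₀) = 0 := by rw [mulVec_mulVec, ← pow_two, hN, zero_mulVec]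
    simp [v, mulVec_sub, mulVec_smul, hNN, hφ1]
  · simp [hN]

end Cfsg.Agent.Lib.LinClasses
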