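import Mathlib
import Cfsg.Prelude.Def_GeometricClasses
import Cfsg.Agent.Lib.LinClasses.Model

/-! The normaliser of a field of prime degree `n` of `n × n` matrices: its non-scalar elements have minimal
polynomial of degree at least `n`, and it contains a cyclic permutation. -/
set_option autoImplicit false

open scoped Matrix

namespace Cfsg.Agent.Lib.LinClasses.Singer

variable {F : Type*} [Field F] {n : ℕ} [NeZero n]

/-- the cyclic shift `e_j ↦ e_{j+1}` -/
def cycShift (F : Type*) [Field F] (n : ℕ) [NeZero n] : Matrix (Fin n) (Fin n) F :=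
  Matrix.of fun i j => if i = j + 1 then 1 else 0

lemma cycShift_mulVec (v : Fin n → F) (i : Fin n) : (cycShift F n *ᵥ v) i = v (i - 1) := by
  simp [cycShift, Matrix.mulVec, dotProduct, ← sub_eq_iff_eq_add]

theorem isModel_of_cyclic {x : Matrix (Fin n) (Fin n) F} (hx : x ^ n = 1) (v : Fin n → F)
    (hli : LinearIndependent F fun i : Fin n => x ^ (i : ℕ) *ᵥ v) : IsModel x (cycShift F n) := by
  let B := basisOfLinearIndependentOfCardEqFinrank hli (by simp)
  refine ⟨B.equivFun.symm, fun w => ?_⟩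
  simp only [Module.Basis.equivFun_symm_apply, B, coe_basisOfLinearIndependentOfCardEqFinrank,
    Matrix.mulVec_sum, Matrix.mulVec_smul, Matrix.mulVec_mulVec]
  rw [← Equiv.sum_comp (Equiv.addRight (1 : Fin n)) (fun i => (cycShift F n *ᵥ w) i • (x ^ (i : ℕ) *ᵥ v))]
  refine Finset.sum_congr rfl fun i _ => ?_
  rw [cycShift_mulVec, Equiv.coe_addRight, add_sub_cancel_right, ← pow_succ', Fin.val_add, Fin.val_one',
    Nat.add_mod_mod, ← pow_eq_pow_mod _ hx]

theorem hasDetCentralizer_cycShift (hn : (n : F) ≠ 0) : HasDetCentralizer (cycShift F n) := by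
  intro c _
  let J : Matrix (Fin n) (Fin n) F :=
    Matrix.replicateCol Unit (fun _ => (c - 1) / n) * Matrix.replicateRow Unit (fun _ => (1 : F))
  have hJ : ∀ i j, J i j = (c - 1) / n := fun i j => by simp [J, Matrix.mul_apply]
  refine ⟨1 + J, ?_, ?_⟩
  · have h : J * cycShift F n = cycShift F n * J := by
      ext i j
      rw [Matrix.mul_apply, Matrix.mul_apply]
      simp only [hJ, cycShift, Matrix.of_apply, mul_ite, mul_one, mul_zero, ite_mul, one_mul, zero_mul]
      simp [← sub_eq_iff_eq_add]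
      simp [sub_eq_iff_eq_add]
    rw [add_mul, mul_add, one_mul, mul_one, h]
  · rw [show 1 + J = 1 + Matrix.replicateCol Unit (fun _ : Fin n => (c - 1) / n) *
      Matrix.replicateRow Unit (fun _ : Fin n => (1 : F)) from rfl, Matrix.det_one_add_replicateCol_mul_replicateRow]
    simp [dotProduct, mul_div_cancel₀ _ hn]

lemma cycShift_pow : (cycShift F n) ^ n = 1 := by
  have h : ∀ (k : ℕ) (v : Fin n → F) (i : Fin n), (cycShift F n ^ k *ᵥ v) i = v (i - k • (1 : Fin n)) := by
    intro k
    induction k with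
    | zero => simp
    | succ k ih =>
      intro v i
      rw [pow_succ, ← Matrix.mulVec_mulVec, ih, cycShift_mulVec, succ_nsmul, sub_sub]
  apply Matrix.toLin'.injective
  refine LinearMap.ext fun v => funext fun i => ?_
  have hc : n • (1 : Fin n) = 0 := by simpa using card_nsmul_eq_zero (G := Fin n) (x := 1)
  rw [Matrix.toLin'_apply, h, hc, sub_zero, Matrix.toLin'_one, LinearMap.id_apply]

variable {K : Subalgebra F (Matrix (Fin n) (Fin n) F)}

lemma act_injective (hK : Cfsg.Geo.IsFieldSubalgebra n K) {k : K} {v : Fin n → F} (hv : v ≠ 0)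
    (h : (k : Matrix (Fin n) (Fin n) F) *ᵥ v = 0) : k = 0 := by
  by_contra h0
  obtain ⟨j, hj, hkj⟩ := hK.inv _ k.2 (fun e => h0 (Subtype.ext e))
  apply hv
  have := congrArg (j *ᵥ ·) h
  simp only [Matrix.mulVec_mulVec, Matrix.mulVec_zero] at this
  rwa [← hK.comm _ k.2 j hj, hkj, Matrix.one_mulVec] at this

/-- `K` is a one-dimensional space over itself -/
theorem exists_actEquiv (hK : Cfsg.Geo.IsFieldSubalgebra n K) :
    ∃ (v : Fin n → F) (Ψ : K ≃ₗ[F] (Fin n → F)), v ≠ 0 ∧ ∀ k : K, Ψ k = (k : Matrix (Fin n) (Fin n) F) *ᵥ v := by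
  let v : Fin n → F := Pi.single 0 1
  have hv : v ≠ 0 := fun h => by simpa [v] using congrFun h 0
  let φ : K →ₗ[F] (Fin n → F) :=
    { toFun := fun k => (k : Matrix (Fin n) (Fin n) F) *ᵥ v
      map_add' := fun a b => by simp [Matrix.add_mulVec]
      map_smul' := fun c a => by simp [Matrix.smul_mulVec] }
  have hinj : Function.Injective φ := (injective_iff_map_eq_zero φ).2 fun k hk => act_injective hK hv hk
  exact ⟨v, φ.linearEquivOfInjective hinj (by simp [hK.finrank_eq]), hv, fun k => rfl⟩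

/-- a matrix commuting with `K` lies in `K` -/
theorem mem_of_commute (hK : Cfsg.Geo.IsFieldSubalgebra n K) {h : Matrix (Fin n) (Fin n) F}
    (hc : ∀ k ∈ K, h * k = k * h) : h ∈ K := by
  obtain ⟨v, Ψ, -, hΨ⟩ := exists_actEquiv hK
  have : h = ((Ψ.symm (h *ᵥ v) : K) : Matrix (Fin n) (Fin n) F) := by
    refine Matrix.toLin'.injective (LinearMap.ext fun w => ?_)
    obtain ⟨k, rfl⟩ := Ψ.surjective w
    rw [Matrix.toLin'_apply, Matrix.toLin'_apply, hΨ k, Matrix.mulVec_mulVec, Matrix.mulVec_mulVec, hc _ k.2,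
      hK.comm _ (Ψ.symm (h *ᵥ v)).2 _ k.2, ← Matrix.mulVec_mulVec, ← Matrix.mulVec_mulVec, ← hΨ (Ψ.symm _),
      Ψ.apply_symm_apply]
  rw [this]
  exact (Ψ.symm (h *ᵥ v)).2

variable [Fintype F]

/-- the normaliser contains a cyclic permutation matrix -/
theorem exists_cyclic_normalizer (hn : n.Prime) (hK : Cfsg.Geo.IsFieldSubalgebra n K) :
    ∃ g : GL (Fin n) F, g ∈ Cfsg.Geo.subalgebraNormalizer K ∧
      IsModel (g : Matrix (Fin n) (Fin n) F) (cycShift F n) := by
  classical
  obtain ⟨v₀, Ψ, -, hΨ⟩ := exists_actEquiv hK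
  have hfield : IsField K :=
    { exists_pair_ne := ⟨0, 1, zero_ne_one⟩
      mul_comm := fun a b => Subtype.ext (hK.comm _ a.2 _ b.2)
      mul_inv_cancel := fun {a} ha => by
        obtain ⟨j, hj, e⟩ := hK.inv _ a.2 (fun h => ha (Subtype.ext h))
        exact ⟨⟨j, hj⟩, Subtype.ext e⟩ }
  letI : Field K := hfield.toField
  haveI : Finite K := Finite.of_injective _ Subtype.val_injective
  have hfr : Module.finrank F K = n := hK.finrank_eq
  let σ := FiniteField.frobeniusAlgEquivOfAlgebraic F K
  let G : (Fin n → F) ≃ₗ[F] (Fin n → F) := (Ψ.symm.trans σ.toLinearEquiv).trans Ψ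
  have hGdet : (LinearMap.toMatrix' (G : (Fin n → F) →ₗ[F] (Fin n → F))).det ≠ 0 := by
    rw [LinearMap.det_toMatrix']; exact (LinearEquiv.isUnit_det' G).ne_zero
  let g : GL (Fin n) F := Matrix.GeneralLinearGroup.mkOfDetNeZero _ hGdet
  have hg : ∀ k : K, (g : Matrix (Fin n) (Fin n) F) *ᵥ Ψ k = Ψ (σ k) := fun k => by
    show LinearMap.toMatrix' (G : (Fin n → F) →ₗ[F] (Fin n → F)) *ᵥ _ = _
    rw [LinearMap.toMatrix'_mulVec]
    simp [G]
  have hgk : ∀ k : K, (g : Matrix (Fin n) (Fin n) F) * (k : Matrix (Fin n) (Fin n) F) =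
      ((σ k : K) : Matrix (Fin n) (Fin n) F) * g := fun k => by
    refine Matrix.toLin'.injective (LinearMap.ext fun w => ?_)
    obtain ⟨k', rfl⟩ := Ψ.surjective w
    simp only [Matrix.toLin'_apply, ← Matrix.mulVec_mulVec]
    rw [hg k', show (k : Matrix (Fin n) (Fin n) F) *ᵥ Ψ k' = Ψ (k * k') by
      rw [hΨ, hΨ, Matrix.mulVec_mulVec]; rfl, hg, map_mul, hΨ, hΨ, Matrix.mulVec_mulVec]
    rfl
  have hconj : ∀ k : K, (g : Matrix (Fin n) (Fin n) F) * (k : Matrix (Fin n) (Fin n) F) *
      ((g⁻¹ : GL (Fin n) F) : Matrix (Fin n) (Fin n) F) = ((σ k : K) : Matrix (Fin n) (Fin n) F) := fun k => by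
    rw [hgk, mul_assoc, ← Units.val_mul, mul_inv_cancel, Units.val_one, mul_one]
  refine ⟨g, fun k => ⟨fun hk => ?_, fun hk => ?_⟩, ?_⟩
  · rw [hconj ⟨k, hk⟩]; exact (σ _).2
  · obtain ⟨k', hk'⟩ := σ.surjective ⟨_, hk⟩
    have h : (g : Matrix (Fin n) (Fin n) F) * (k' : Matrix (Fin n) (Fin n) F) *
        ((g⁻¹ : GL (Fin n) F) : Matrix (Fin n) (Fin n) F) =
        (g : Matrix (Fin n) (Fin n) F) * k * ((g⁻¹ : GL (Fin n) F) : Matrix (Fin n) (Fin n) F) := by
      rw [hconj, hk']
    have := g.isUnit.mul_left_cancel (g⁻¹.isUnit.mul_right_cancel h)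
    rw [← this]; exact k'.2
  · have hpow : ∀ (i : ℕ) (k : K), (g : Matrix (Fin n) (Fin n) F) ^ i *ᵥ Ψ k = Ψ ((σ ^ i) k) := by
      intro i
      induction i with
      | zero => simp
      | succ i ih => intro k; rw [pow_succ, ← Matrix.mulVec_mulVec, hg, ih, pow_succ]; rfl
    have hσn : σ ^ n = 1 := by
      refine Eq.trans (congrArg (σ ^ ·) hfr.symm) ?_
      refine AlgEquiv.ext fun k => ?_
      have hc : Fintype.card F ^ Module.finrank F K = Nat.card K := by
        rw [Module.natCard_eq_pow_finrank (K := F), Nat.card_eq_fintype_card]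
      have hk : (σ ^ Module.finrank F K) k = k ^ (Fintype.card F ^ Module.finrank F K) := by
        simp [σ, AlgEquiv.coe_pow, FiniteField.coe_frobeniusAlgEquivOfAlgebraic_iterate]
      haveI := Fintype.ofFinite K
      rw [hk, hc, Nat.card_eq_fintype_card, FiniteField.pow_card]
      rfl
    have hgn : (g : Matrix (Fin n) (Fin n) F) ^ n = 1 := by
      refine Matrix.toLin'.injective (LinearMap.ext fun w => ?_)
      obtain ⟨k, rfl⟩ := Ψ.surjective w
      rw [Matrix.toLin'_apply, hpow, hσn, Matrix.toLin'_one]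
      rfl
    have hx₀ : LinearIndependent F fun τ : Gal(K/F) => τ (IsGalois.normalBasis F K 1) := by
      have h := (IsGalois.normalBasis F K).linearIndependent
      rwa [show (⇑(IsGalois.normalBasis F K)) = fun τ => τ (IsGalois.normalBasis F K 1) from
        funext fun τ => IsGalois.normalBasis_apply τ] at h
    generalize IsGalois.normalBasis F K 1 = x₀ at hx₀
    refine isModel_of_cyclic hgn (Ψ x₀) ?_
    have hbij := FiniteField.bijective_frobeniusAlgEquivOfAlgebraic_pow F K
    have h2 := ((hx₀.comp _ hbij.1).comp (Fin.cast hfr.symm) (Fin.cast_injective _)).map' Ψ.toLinearMap Ψ.ker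
    rw [show (fun i : Fin n => (g : Matrix (Fin n) (Fin n) F) ^ (i : ℕ) *ᵥ Ψ x₀) =
        ⇑Ψ.toLinearMap ∘ (((fun τ : Gal(K/F) => τ x₀) ∘
          fun m : Fin (Module.finrank F K) => FiniteField.frobeniusAlgEquivOfAlgebraic F K ^ (m : ℕ)) ∘ Fin.cast hfr.symm)
      from funext fun i => (hpow i x₀).trans (by rfl)]
    exact h2

/-- non-scalar elements of the normaliser have minimal polynomial of degree at least `n` -/
theorem le_natDegree_minpoly (hn : n.Prime) (hK : Cfsg.Geo.IsFieldSubalgebra n K) {g : GL (Fin n) F}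
    (hg : g ∈ Cfsg.Geo.subalgebraNormalizer K) (hns : ∀ c : F, (g : Matrix (Fin n) (Fin n) F) ≠ c • 1) :
    n ≤ (minpoly F (g : Matrix (Fin n) (Fin n) F)).natDegree := by
  classical
  obtain ⟨v₀, Ψ, hv₀, hΨ⟩ := exists_actEquiv hK
  have hfield : IsField K :=
    { exists_pair_ne := ⟨0, 1, zero_ne_one⟩
      mul_comm := fun a b => Subtype.ext (hK.comm _ a.2 _ b.2)
      mul_inv_cancel := fun {a} ha => by
        obtain ⟨j, hj, e⟩ := hK.inv _ a.2 (fun h => ha (Subtype.ext h))
        exact ⟨⟨j, hj⟩, Subtype.ext e⟩ }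
  letI : Field K := hfield.toField
  haveI : Finite K := Finite.of_injective _ Subtype.val_injective
  have hfr : Module.finrank F K = n := hK.finrank_eq
  set A := (g : Matrix (Fin n) (Fin n) F) with hA
  set A' := ((g⁻¹ : GL (Fin n) F) : Matrix (Fin n) (Fin n) F) with hA'
  have hAA' : A * A' = 1 := by rw [hA, hA', ← Units.val_mul, mul_inv_cancel, Units.val_one]
  have hA'A : A' * A = 1 := by rw [hA, hA', ← Units.val_mul, inv_mul_cancel, Units.val_one]
  let φ : K →ₐ[F] K :=
    { toFun := fun k => ⟨A * k * A', (hg k).1 k.2⟩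
      map_one' := Subtype.ext (by show A * 1 * A' = 1; rw [mul_one, hAA'])
      map_mul' := fun a b => Subtype.ext (by
        show A * ((a : Matrix (Fin n) (Fin n) F) * b) * A' = (A * a * A') * (A * b * A')
        simp only [mul_assoc]
        rw [← mul_assoc A' A, hA'A, one_mul])
      map_zero' := Subtype.ext (by show A * 0 * A' = 0; simp)
      map_add' := fun a b => Subtype.ext (by
        show A * ((a : Matrix (Fin n) (Fin n) F) + b) * A' = A * a * A' + A * b * A'
        rw [mul_add, add_mul])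
      commutes' := fun c => Subtype.ext (by
        show A * algebraMap F (Matrix (Fin n) (Fin n) F) c * A' = algebraMap F _ c
        rw [← Algebra.commutes, mul_assoc, hAA', mul_one]) }
  have hφbij : Function.Bijective φ := Finite.injective_iff_bijective.1 φ.toRingHom.injective
  let σ : Gal(K/F) := AlgEquiv.ofBijective φ hφbij
  have hcomm : ∀ k : K, A * (k : Matrix (Fin n) (Fin n) F) = ((σ k : K) : Matrix (Fin n) (Fin n) F) * A := fun k => by
    show A * k = A * k * A' * A
    rw [mul_assoc _ A', hA'A, mul_one]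
  by_cases hσ : σ = 1
  · have hAK : A ∈ K := mem_of_commute hK fun k hk => by
      have := hcomm ⟨k, hk⟩
      rwa [hσ] at this
    have hmin : minpoly F (⟨A, hAK⟩ : K) = minpoly F A :=
      (minpoly.algHom_eq K.val Subtype.val_injective _).symm
    rw [← hmin]
    have hint : IsIntegral F (⟨A, hAK⟩ : K) := IsIntegral.of_finite F _
    have hdvd : (minpoly F (⟨A, hAK⟩ : K)).natDegree ∣ n := by
      refine dvd_trans ?_ hfr.dvd
      rw [← IntermediateField.adjoin.finrank hint]
      exact ⟨_, (Module.finrank_mul_finrank F _ K).symm⟩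
    rcases (Nat.dvd_prime hn).1 hdvd with h | h
    · obtain ⟨c, hc⟩ := minpoly.natDegree_eq_one_iff.1 h
      exact absurd (by
        have := congrArg Subtype.val hc
        simpa [Algebra.algebraMap_eq_smul_one] using this.symm) (hns c)
    · omega
  · by_contra hlt
    push Not at hlt
    have hord : orderOf σ = n := by
      haveI := Fact.mk hn
      refine orderOf_eq_prime ?_ hσ
      have h := pow_card_eq_one' (x := σ)
      rw [IsGalois.card_aut_eq_finrank F K] at h
      exact Eq.trans (congrArg (σ ^ ·) hfr.symm) h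
    let u : ℕ → K := fun i => Ψ.symm (A ^ i *ᵥ v₀)
    have hu : ∀ i, u i ≠ 0 := fun i h => hv₀ (by
      have h' : A ^ i *ᵥ v₀ = 0 := by
        have := congrArg Ψ h
        simpa [u] using this
      have h'' := congrArg (A' ^ i *ᵥ ·) h'
      simpa [Matrix.mulVec_mulVec, ← (Commute.mul_pow (hA'A.trans hAA'.symm) i), hA'A] using h'')
    have hpowk : ∀ (i : ℕ) (k : K), A ^ i * (k : Matrix (Fin n) (Fin n) F) =
        (((σ ^ i) k : K) : Matrix (Fin n) (Fin n) F) * A ^ i := by
      intro i
      induction i with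
      | zero => simp
      | succ i ih =>
        intro k
        rw [pow_succ' A, mul_assoc, ih, ← mul_assoc, hcomm, mul_assoc, ← pow_succ', pow_succ' σ, AlgEquiv.mul_apply]
    let χ : Fin n → (K →* K) := fun i => ((σ ^ (i : ℕ)).toAlgHom : K →* K)
    have hχ : Function.Injective χ := by
      intro i j hij
      apply Fin.ext
      have h : σ ^ (i : ℕ) = σ ^ (j : ℕ) := AlgEquiv.ext fun k => DFunLike.congr_fun hij k
      exact pow_injOn_Iio_orderOf (by rw [hord]; exact i.isLt) (by rw [hord]; exact j.isLt) h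
    have hli := (linearIndependent_monoidHom K K).comp χ hχ
    rw [Fintype.linearIndependent_iff] at hli
    have hne : minpoly F A ≠ 0 := minpoly.ne_zero (IsIntegral.of_finite F A)
    have hzero := minpoly.aeval F A
    rw [Polynomial.aeval_eq_sum_range' hlt] at hzero
    apply hne
    have hcoef := hli (fun i => algebraMap F K ((minpoly F A).coeff i) * u i) (funext fun k => by
      apply Ψ.injective
      simp only [Finset.sum_apply, Pi.smul_apply, Function.comp_apply, smul_eq_mul, map_sum, Pi.zero_apply, map_zero]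
      have hk := congrArg (fun M => M *ᵥ Ψ k) hzero
      simp only [Matrix.sum_mulVec, Matrix.zero_mulVec] at hk
      rw [← Fin.sum_univ_eq_sum_range (fun i => ((minpoly F A).coeff i • A ^ i) *ᵥ Ψ k) n] at hk
      rw [← hk]
      refine Finset.sum_congr rfl fun i _ => ?_
      rw [mul_assoc, ← Algebra.smul_def, map_smul, Matrix.smul_mulVec]
      congr 1
      rw [hΨ k, Matrix.mulVec_mulVec, hpowk, ← Matrix.mulVec_mulVec,
        show A ^ (i : ℕ) *ᵥ v₀ = Ψ (u i) by simp [u], hΨ, hΨ, Matrix.mulVec_mulVec, mul_comm (u i)]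
      rfl)
    refine Polynomial.ext fun i => ?_
    rw [Polynomial.coeff_zero]
    by_cases hi : i < n
    · have := hcoef ⟨i, hi⟩
      simpa [hu i] using this
    · exact Polynomial.coeff_eq_zero_of_natDegree_lt (by omega)

end Cfsg.Agent.Lib.LinClasses.Singer
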