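import Mathlib
import Cfsg.Prelude.Def_GeometricClasses
import Cfsg.Agent.Lib.LinClasses.Singer

/-! Elements of order `n` of `SL_n` (`n` prime) and the normaliser of a field of degree `n`. -/
set_option autoImplicit false

open scoped Matrix
open Polynomial

namespace Cfsg.Agent.Lib.LinClasses.Singer

variable {F : Type*} [Field F] [Fintype F] {n : ℕ} [NeZero n]

/-- the elements killed by a polynomial of degree `< n` do not reach the normaliser -/
theorem not_mem_of_aeval {K : Subalgebra F (Matrix (Fin n) (Fin n) F)} (hn : n.Prime)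
    (hK : Cfsg.Geo.IsFieldSubalgebra n K) {x : Matrix.SpecialLinearGroup (Fin n) F}
    (hns : ∀ c : F, (x : Matrix (Fin n) (Fin n) F) ≠ c • 1) {Q : F[X]} (hQ0 : Q ≠ 0) (hQd : Q.natDegree < n)
    (hQ : aeval (x : Matrix (Fin n) (Fin n) F) Q = 0) (P : Matrix.SpecialLinearGroup (Fin n) F) :
    P⁻¹ * x * P ∉ (Cfsg.Geo.subalgebraNormalizer K).comap
      (Matrix.SpecialLinearGroup.toGL : Matrix.SpecialLinearGroup (Fin n) F →* GL (Fin n) F) := by
  intro hmem
  set A := ((P⁻¹ : Matrix.SpecialLinearGroup (Fin n) F) : Matrix (Fin n) (Fin n) F) with hA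
  set B := (P : Matrix (Fin n) (Fin n) F) with hB
  have hAB : A * B = 1 := by
    rw [hA, hB, ← Matrix.SpecialLinearGroup.coe_mul, inv_mul_cancel, Matrix.SpecialLinearGroup.coe_one]
  have hBA : B * A = 1 := by
    rw [hA, hB, ← Matrix.SpecialLinearGroup.coe_mul, mul_inv_cancel, Matrix.SpecialLinearGroup.coe_one]
  have hy : ((P⁻¹ * x * P : Matrix.SpecialLinearGroup (Fin n) F) : Matrix (Fin n) (Fin n) F) =
      A * (x : Matrix (Fin n) (Fin n) F) * B := by
    simp [hA, hB]
  have hconj : ∀ R : F[X], aeval (A * (x : Matrix (Fin n) (Fin n) F) * B) R =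
      A * aeval (x : Matrix (Fin n) (Fin n) F) R * B := by
    intro R
    induction R using Polynomial.induction_on with
    | C a => rw [aeval_C, aeval_C, ← Algebra.commutes, mul_assoc, hAB, mul_one]
    | add R S hR hS => rw [map_add, map_add, hR, hS, mul_add, add_mul]
    | monomial k a ih =>
      rw [pow_succ, ← mul_assoc, map_mul, map_mul _ (C a * X ^ k), ih, aeval_X, aeval_X]
      simp only [mul_assoc]
      rw [← mul_assoc B A, hBA, one_mul]
  refine absurd (le_natDegree_minpoly hn hK hmem fun c hc => ?_) ?_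
  · refine hns c ?_
    have h : A * (x : Matrix (Fin n) (Fin n) F) * B = c • 1 := hy ▸ hc
    calc (x : Matrix (Fin n) (Fin n) F) = B * (A * x * B) * A := by
          simp only [← mul_assoc, hBA, one_mul, mul_assoc _ B A, mul_one]
      _ = c • 1 := by rw [h, Matrix.mul_smul, mul_one, Matrix.smul_mul, hBA]
  · have h0 : aeval ((P⁻¹ * x * P : Matrix.SpecialLinearGroup (Fin n) F) : Matrix (Fin n) (Fin n) F) Q = 0 := by
      rw [hy, hconj, hQ, mul_zero, zero_mul]
    have := Polynomial.natDegree_le_of_dvd (minpoly.dvd F _ h0) hQ0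
    show ¬ n ≤ (minpoly F _).natDegree
    exact not_le.2 (lt_of_le_of_lt this hQd)

omit [Fintype F] in
/-- transvection witness in characteristic `n` -/
theorem exists_bad_char (hn : 3 ≤ n) (hchar : CharP F n) [Fact n.Prime] :
    ∃ x : Matrix.SpecialLinearGroup (Fin n) F,
      (∃ z : F, ((x ^ n : Matrix.SpecialLinearGroup (Fin n) F) : Matrix (Fin n) (Fin n) F) = z • 1) ∧
      (∀ c : F, (x : Matrix (Fin n) (Fin n) F) ≠ c • 1) ∧
      ∃ Q : F[X], Q ≠ 0 ∧ Q.natDegree < n ∧ aeval (x : Matrix (Fin n) (Fin n) F) Q = 0 := by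
  let i : Fin n := ⟨0, by omega⟩
  let j : Fin n := ⟨1, by omega⟩
  have hij : i ≠ j := by simp [i, j, Fin.ext_iff]
  set N : Matrix (Fin n) (Fin n) F := Matrix.single i j 1 with hN
  have hN2 : N * N = 0 := Matrix.single_mul_single_of_ne (c := (1 : F)) i j i hij.symm 1
  have hdet : (1 + N).det = 1 := Matrix.det_transvection_of_ne i j hij 1
  refine ⟨⟨1 + N, hdet⟩, ⟨1, ?_⟩, fun c hc => ?_, (X - C 1) ^ 2, pow_ne_zero _ (X_sub_C_ne_zero 1), ?_, ?_⟩
  · refine (Matrix.SpecialLinearGroup.coe_pow _ _).trans ?_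
    show (1 + N) ^ n = _
    rw [add_pow_char_of_commute n (Commute.one_left N), one_pow,
      pow_eq_zero_of_le (show 2 ≤ n by omega) (by rw [pow_two]; exact hN2), add_zero, one_smul]
  · have := congrFun (congrFun hc i) j
    simp [hN, hij] at this
  · rw [natDegree_pow, natDegree_X_sub_C]; omega
  · simp [hN2, pow_two]

omit [Fintype F] in
/-- diagonal witness: two eigenvalues -/
theorem exists_bad_sq (hn : n.Prime) (hn3 : 3 ≤ n) {c : F} (hc : IsPrimitiveRoot c (n * n)) :
    ∃ x : Matrix.SpecialLinearGroup (Fin n) F,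
      (∃ z : F, ((x ^ n : Matrix.SpecialLinearGroup (Fin n) F) : Matrix (Fin n) (Fin n) F) = z • 1) ∧
      (∀ c : F, (x : Matrix (Fin n) (Fin n) F) ≠ c • 1) ∧
      ∃ Q : F[X], Q ≠ 0 ∧ Q.natDegree < n ∧ aeval (x : Matrix (Fin n) (Fin n) F) Q = 0 := by
  obtain ⟨m, rfl⟩ : ∃ m, n = m + 2 := ⟨n - 2, by omega⟩
  let a := c ^ ((m + 2) * (m + 1) + 1)
  let d : Fin (m + 2) → F := Fin.cons a fun _ => c
  have hcc : c ^ ((m + 2) * (m + 2)) = 1 := hc.pow_eq_one
  have hdet : (Matrix.diagonal d).det = 1 := by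
    rw [Matrix.det_diagonal, Fin.prod_univ_succ]
    simp only [d, Fin.cons_zero, Fin.cons_succ, Finset.prod_const, Finset.card_univ, Fintype.card_fin, a]
    rw [← pow_add, show (m + 2) * (m + 1) + 1 + (m + 1) = (m + 2) * (m + 2) by ring, hcc]
  refine ⟨⟨_, hdet⟩, ⟨c ^ (m + 2), ?_⟩, fun z hz => ?_, (X - C a) * (X - C c),
    mul_ne_zero (X_sub_C_ne_zero a) (X_sub_C_ne_zero c), ?_, ?_⟩
  · refine (Matrix.SpecialLinearGroup.coe_pow _ _).trans ?_
    show Matrix.diagonal d ^ (m + 2) = _
    rw [Matrix.diagonal_pow, Matrix.smul_one_eq_diagonal]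
    refine congrArg _ (funext fun i => ?_)
    refine Fin.cases ?_ (fun i => ?_) i
    · simp only [Pi.pow_apply, d, Fin.cons_zero, a]
      rw [← pow_mul, show ((m + 2) * (m + 1) + 1) * (m + 2) = (m + 2) * (m + 2) * (m + 1) + (m + 2) by ring,
        pow_add, pow_mul, hcc, one_pow, one_mul]
    · simp [d]
  · have e0 := congrFun (congrFun hz 0) 0
    have e1 := congrFun (congrFun hz (Fin.succ 0)) (Fin.succ 0)
    simp only [Matrix.diagonal_apply_eq, Matrix.smul_apply, Matrix.one_apply_eq, smul_eq_mul, mul_one, d,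
      Fin.cons_zero, Fin.cons_succ] at e0 e1
    rw [← e1] at e0
    have h1 : c ^ ((m + 2) * (m + 1)) = 1 := by
      have hc0 : c ≠ 0 := hc.ne_zero (by positivity)
      apply mul_right_cancel₀ hc0
      rw [one_mul, ← pow_succ]
      exact e0
    have := Nat.le_of_dvd (by positivity) ((hc.pow_eq_one_iff_dvd _).1 h1)
    nlinarith
  · have := natDegree_mul_le (p := X - C a) (q := X - C c)
    rw [natDegree_X_sub_C, natDegree_X_sub_C] at this
    omega
  · have h : ∀ b : F, aeval (Matrix.diagonal d) (X - C b) = Matrix.diagonal fun i => d i - b := fun b => by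
      rw [map_sub, aeval_X, aeval_C, Matrix.algebraMap_eq_diagonal, Matrix.diagonal_sub]
      rfl
    show aeval (Matrix.diagonal d) _ = 0
    rw [map_mul, h, h, Matrix.diagonal_mul_diagonal, ← Matrix.diagonal_zero]
    refine congrArg _ (funext fun i => ?_)
    refine Fin.cases ?_ (fun i => ?_) i <;> simp [d]

omit [Fintype F] in
/-- diagonal witness: three eigenvalues -/
theorem exists_bad_root (hn3 : 3 < n) {ω : F} (hω : IsPrimitiveRoot ω n) :
    ∃ x : Matrix.SpecialLinearGroup (Fin n) F,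
      (∃ z : F, ((x ^ n : Matrix.SpecialLinearGroup (Fin n) F) : Matrix (Fin n) (Fin n) F) = z • 1) ∧
      (∀ c : F, (x : Matrix (Fin n) (Fin n) F) ≠ c • 1) ∧
      ∃ Q : F[X], Q ≠ 0 ∧ Q.natDegree < n ∧ aeval (x : Matrix (Fin n) (Fin n) F) Q = 0 := by
  obtain ⟨m, rfl⟩ : ∃ m, n = m + 3 := ⟨n - 3, by omega⟩
  let a := ω ^ (m + 2)
  let d : Fin (m + 3) → F := Fin.cons ω (Fin.cons a fun _ => 1)
  have hdet : (Matrix.diagonal d).det = 1 := by
    rw [Matrix.det_diagonal, Fin.prod_univ_succ, Fin.prod_univ_succ]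
    simp only [d, Fin.cons_zero, Fin.cons_succ, Finset.prod_const_one, mul_one, a]
    rw [← pow_succ', hω.pow_eq_one]
  refine ⟨⟨_, hdet⟩, ⟨1, ?_⟩, fun z hz => ?_, (X - C ω) * (X - C a) * (X - C 1),
    mul_ne_zero (mul_ne_zero (X_sub_C_ne_zero ω) (X_sub_C_ne_zero a)) (X_sub_C_ne_zero 1), ?_, ?_⟩
  · refine (Matrix.SpecialLinearGroup.coe_pow _ _).trans ?_
    show Matrix.diagonal d ^ (m + 3) = _
    rw [Matrix.diagonal_pow, Matrix.smul_one_eq_diagonal]
    refine congrArg _ (funext fun i => ?_)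
    refine Fin.cases ?_ (fun i => Fin.cases ?_ (fun i => ?_) i) i
    · simp [d, hω.pow_eq_one]
    · simp only [Pi.pow_apply, d, Fin.cons_succ, Fin.cons_zero, a]
      rw [← pow_mul, mul_comm, pow_mul, hω.pow_eq_one, one_pow]
    · simp [d]
  · have e0 := congrFun (congrFun hz 0) 0
    have e2 := congrFun (congrFun hz (Fin.succ (Fin.succ 0))) (Fin.succ (Fin.succ 0))
    simp only [Matrix.diagonal_apply_eq, Matrix.smul_apply, Matrix.one_apply_eq, smul_eq_mul, mul_one, d,
      Fin.cons_zero, Fin.cons_succ] at e0 e2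
    exact hω.ne_one (by omega) (e0.trans e2.symm)
  · have h1 := natDegree_mul_le (p := X - C ω) (q := X - C a)
    have h2 := natDegree_mul_le (p := (X - C ω) * (X - C a)) (q := X - C (1 : F))
    rw [natDegree_X_sub_C, natDegree_X_sub_C] at h1
    rw [natDegree_X_sub_C] at h2
    omega
  · have h : ∀ b : F, aeval (Matrix.diagonal d) (X - C b) = Matrix.diagonal fun i => d i - b := fun b => by
      rw [map_sub, aeval_X, aeval_C, Matrix.algebraMap_eq_diagonal, Matrix.diagonal_sub]
      rfl
    show aeval (Matrix.diagonal d) _ = 0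
    rw [map_mul, map_mul, h, h, h, Matrix.diagonal_mul_diagonal, Matrix.diagonal_mul_diagonal, ← Matrix.diagonal_zero]
    refine congrArg _ (funext fun i => ?_)
    refine Fin.cases ?_ (fun i => Fin.cases ?_ (fun i => ?_) i) i <;> simp [d]

/-- block witness when the order `d` of `q` modulo `n` is below `n - 1` -/
theorem exists_bad_field (p : ℕ) [Fact p.Prime] [CharP F p] (hn : n.Prime) (hn1 : ¬ n ∣ Fintype.card F - 1)
    {d : ℕ} (hd0 : d ≠ 0) (hd : d + 1 < n) (hnd : n ∣ Fintype.card F ^ d - 1) :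
    ∃ x : Matrix.SpecialLinearGroup (Fin n) F,
      (∃ z : F, ((x ^ n : Matrix.SpecialLinearGroup (Fin n) F) : Matrix (Fin n) (Fin n) F) = z • 1) ∧
      (∀ c : F, (x : Matrix (Fin n) (Fin n) F) ≠ c • 1) ∧
      ∃ Q : F[X], Q ≠ 0 ∧ Q.natDegree < n ∧ aeval (x : Matrix (Fin n) (Fin n) F) Q = 0 := by
  classical
  haveI := Fact.mk hn
  have : NeZero d := ⟨hd0⟩
  let L := FiniteField.Extension F p d
  have hroot : ∀ z : F, z ^ n = 1 → z = 1 := by
    intro z hz
    by_contra hne
    have hz0 : z ≠ 0 := fun h => by rw [h, zero_pow hn.ne_zero] at hz; exact zero_ne_one hz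
    have hord : orderOf (Units.mk0 z hz0) = n :=
      orderOf_eq_prime (Units.ext (by simpa using hz)) (fun h => hne (by simpa using congrArg Units.val h))
    have h := orderOf_dvd_natCard (Units.mk0 z hz0)
    rw [hord, Nat.card_units, Nat.card_eq_fintype_card] at h
    exact hn1 h
  obtain ⟨w, hw⟩ : ∃ w : Lˣ, orderOf w = n := by
    refine exists_prime_orderOf_dvd_card' n ?_
    rw [Nat.card_units, FiniteField.natCard_extension, Nat.card_eq_fintype_card]
    exact hnd
  set ω : L := (w : L) with hω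
  have hωn : ω ^ n = 1 := by rw [hω, ← Units.val_pow_eq_pow_val, ← hw, pow_orderOf_eq_one, Units.val_one]
  have hω1 : ω ≠ 1 := fun h => by
    rw [Units.val_eq_one.1 h, orderOf_one] at hw
    exact hn.ne_one hw.symm
  let W := Fin (n - d) → F
  let e : (L × W) ≃ₗ[F] (Fin n → F) :=
    LinearEquiv.ofFinrankEq _ _ (by
      rw [Module.finrank_prod, FiniteField.finrank_extension, Module.finrank_pi, Module.finrank_pi,
        Fintype.card_fin, Fintype.card_fin]
      omega)
  let T : Module.End F (L × W) := (LinearMap.mulLeft F ω).prodMap LinearMap.id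
  let ρ : Module.End F (L × W) ≃ₐ[F] Matrix (Fin n) (Fin n) F :=
    e.conjAlgEquiv F |>.trans LinearMap.toMatrixAlgEquiv'
  set x := ρ T with hx
  have hTk : ∀ k : ℕ, ∀ v : L × W, (T ^ k) v = (ω ^ k * v.1, v.2) := by
    intro k
    induction k with
    | zero => simp
    | succ k ih => intro v; rw [pow_succ, Module.End.mul_apply, ih]; simp [T, pow_succ, mul_assoc]
  have hTn : T ^ n = 1 := LinearMap.ext fun v => by rw [hTk, hωn, one_mul]; rfl
  have hxn : x ^ n = 1 := by rw [hx, ← map_pow, hTn, map_one]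
  have hdet : x.det = 1 := hroot _ (by rw [← Matrix.det_pow, hxn, Matrix.det_one])
  refine ⟨⟨x, hdet⟩, ⟨1, ?_⟩, fun c hc => ?_, minpoly F ω * (X - C 1), ?_, ?_, ?_⟩
  · rw [one_smul]; exact (Matrix.SpecialLinearGroup.coe_pow _ _).trans hxn
  · have hid : T = c • (1 : Module.End F (L × W)) := ρ.injective (by rw [map_smul, map_one]; exact hc)
    have h2 := congrArg Prod.snd (LinearMap.congr_fun hid (0, fun _ => 1))
    simp only [T, LinearMap.prodMap_apply, LinearMap.id_apply, LinearMap.smul_apply, Module.End.one_apply,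
      Prod.smul_snd] at h2
    have hc1 : c = 1 := by
      have := congrFun h2 ⟨0, by omega⟩
      change (1 : F) = c * 1 at this
      simpa using this.symm
    have h1 := congrArg Prod.fst (LinearMap.congr_fun hid (1, 0))
    simp only [T, LinearMap.prodMap_apply, LinearMap.mulLeft_apply, mul_one, hc1, one_smul, Module.End.one_apply] at h1
    exact hω1 h1
  · exact mul_ne_zero (minpoly.ne_zero (IsIntegral.of_finite F ω)) (X_sub_C_ne_zero 1)
  · have h1 := natDegree_mul_le (p := minpoly F ω) (q := X - C (1 : F))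
    have h2 := minpoly.natDegree_le (A := F) ω
    rw [natDegree_X_sub_C] at h1
    rw [FiniteField.finrank_extension] at h2
    omega
  · show aeval (ρ T) (minpoly F ω * (X - C 1)) = 0
    rw [aeval_algHom_apply]
    suffices h : aeval T (minpoly F ω * (X - C 1)) = 0 by rw [h, map_zero]
    refine LinearMap.ext fun v => ?_
    have haev : ∀ (P : F[X]) (v : L × W), aeval T P v = (aeval ω P * v.1, P.eval 1 • v.2) := by
      intro P
      induction P using Polynomial.induction_on' with
      | add P Q hP hQ => intro v; simp [map_add, hP, hQ, add_mul, add_smul]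
      | monomial i a => intro v; simp [aeval_monomial, hTk, Algebra.smul_def, mul_assoc]
    rw [haev]
    simp [minpoly.aeval]

/-- the generic good case -/
theorem isModel_of_order (hn : n.Prime) (hn0 : (n : F) ≠ 0) (hn1 : ¬ n ∣ Fintype.card F - 1)
    (hd : ∀ d, d ≠ 0 → d + 1 < n → ¬ n ∣ Fintype.card F ^ d - 1)
    {x : Matrix (Fin n) (Fin n) F} (hx : x ^ n = 1) (hx1 : x ≠ 1) : IsModel x (cycShift F n) := by
  classical
  haveI := Fact.mk hn
  let S : Matrix (Fin n) (Fin n) F := ∑ i ∈ Finset.range n, x ^ i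
  have hSx : S * x = S := by
    have h : S * (x - 1) = 0 := by rw [geom_sum_mul, hx, sub_self]
    rw [mul_sub, mul_one, sub_eq_zero] at h
    exact h
  have hxS : x * S = S := by
    have h : (x - 1) * S = 0 := by rw [mul_geom_sum, hx, sub_self]
    rw [sub_mul, one_mul, sub_eq_zero] at h
    exact h
  let W : Submodule F (Fin n → F) := LinearMap.ker (Matrix.toLin' S)
  have hW : ∀ v, v ∈ W ↔ S *ᵥ v = 0 := fun v => by simp [W, Matrix.toLin'_apply]
  have hfixW : ∀ v ∈ W, x *ᵥ v = v → v = 0 := by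
    intro v hv hxv
    have hk : ∀ i : ℕ, x ^ i *ᵥ v = v := by
      intro i
      induction i with
      | zero => simp
      | succ i ih => rw [pow_succ, ← Matrix.mulVec_mulVec, hxv, ih]
    have h0 := (hW v).1 hv
    simp only [S, Matrix.sum_mulVec, hk, Finset.sum_const, Finset.card_range] at h0
    rw [← Nat.cast_smul_eq_nsmul F] at h0
    exact (smul_eq_zero.1 h0).resolve_left hn0
  -- invariant subspaces of `W`
  have hcount : ∀ U : Submodule F (Fin n → F), U ≤ W → (∀ u ∈ U, x *ᵥ u ∈ U) → U ≠ ⊥ →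
      n ∣ Fintype.card F ^ Module.finrank F U - 1 := by
    intro U hUW hinv _
    let f : Function.End U := fun u => ⟨x *ᵥ (u : Fin n → F), hinv _ u.2⟩
    have hfk : ∀ (k : ℕ) (u : U), ((f ^ k : Function.End U) u : Fin n → F) = x ^ k *ᵥ (u : Fin n → F) := by
      intro k
      induction k with
      | zero => intro u; simp [Function.End.one_def]
      | succ k ih =>
        intro u
        rw [pow_succ f, pow_succ x, ← Matrix.mulVec_mulVec]
        exact ih (f u)
    have hf : f ^ n ^ 1 = 1 := funext fun u => Subtype.ext (by rw [hfk, pow_one, hx, Matrix.one_mulVec]; rfl)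
    have h := Equiv.Perm.card_fixedPoints_modEq (α := U) hf
    have hfix : Fintype.card f.fixedPoints = 1 := by
      rw [Fintype.card_eq_one_iff]
      refine ⟨⟨0, Subtype.ext (Matrix.mulVec_zero x)⟩, fun u => Subtype.ext (Subtype.ext ?_)⟩
      exact hfixW _ (hUW u.1.2) (congrArg Subtype.val u.2)
    rw [hfix, ← Nat.card_eq_fintype_card, Module.natCard_eq_pow_finrank (K := F), Nat.card_eq_fintype_card] at h
    exact (Nat.modEq_iff_dvd' (Nat.one_le_pow _ _ Fintype.card_pos)).1 h.symm
  have hbig : ∀ U : Submodule F (Fin n → F), U ≤ W → (∀ u ∈ U, x *ᵥ u ∈ U) → U ≠ ⊥ → n ≤ Module.finrank F U + 1 := by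
    intro U hUW hinv hU
    by_contra hlt
    exact hd _ (fun h => hU (Submodule.finrank_eq_zero.1 h)) (not_le.1 hlt) (hcount U hUW hinv hU)
  have hWinv : ∀ u ∈ W, x *ᵥ u ∈ W := fun u hu => by
    rw [hW, Matrix.mulVec_mulVec, hSx]; exact (hW u).1 hu
  have hxW : ∀ v, x *ᵥ v - v ∈ W := fun v => by
    rw [hW, Matrix.mulVec_sub, Matrix.mulVec_mulVec, hSx, sub_self]
  have hWbot : W ≠ ⊥ := by
    intro h
    apply hx1
    apply Matrix.toLin'.injective
    refine LinearMap.ext fun v => ?_
    have := hxW v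
    rw [h, Submodule.mem_bot, sub_eq_zero] at this
    simpa using this
  have hWtop : W ≠ ⊤ := by
    intro h
    have hdiv := hcount W le_rfl hWinv hWbot
    rw [h, finrank_top, Module.finrank_fin_fun] at hdiv
    have h1 : ((Fintype.card F : ZMod n)) ^ n = 1 := by
      have := (Nat.modEq_iff_dvd' (Nat.one_le_pow n _ (Fintype.card_pos (α := F)))).2 hdiv
      have h2 := (ZMod.natCast_eq_natCast_iff 1 (Fintype.card F ^ n) n).2 this
      rw [Nat.cast_pow, Nat.cast_one] at h2
      exact h2.symm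
    rw [ZMod.pow_card] at h1
    exact hn1 ((Nat.modEq_iff_dvd' Fintype.card_pos).1
      ((ZMod.natCast_eq_natCast_iff 1 (Fintype.card F) n).1 (by rw [Nat.cast_one, h1])))
  have hWlt : Module.finrank F W < n := by
    simpa using Submodule.finrank_lt hWtop
  have hWge := hbig W le_rfl hWinv hWbot
  obtain ⟨w, hwW, hw0⟩ := Submodule.exists_mem_ne_zero_of_ne_bot hWbot
  obtain ⟨a, ha⟩ : ∃ a, S *ᵥ a ≠ 0 := by
    by_contra h
    push Not at h
    exact hWtop (eq_top_iff.2 fun v _ => (hW v).2 (h v))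
  have hxa : x *ᵥ (S *ᵥ a) = S *ᵥ a := by rw [Matrix.mulVec_mulVec, hxS]
  have haW : S *ᵥ a ∉ W := fun h => ha (hfixW _ h hxa)
  refine isModel_of_cyclic hx (S *ᵥ a + w) (linearIndependent_of_top_le_span_of_card_eq_finrank ?_ (by simp))
  set V := Submodule.span F (Set.range fun i : Fin n => x ^ (i : ℕ) *ᵥ (S *ᵥ a + w)) with hV
  have hmem : ∀ k : ℕ, x ^ k *ᵥ (S *ᵥ a + w) ∈ V := fun k =>
    Submodule.subset_span ⟨⟨k % n, Nat.mod_lt _ hn.pos⟩, by
      show x ^ (k % n) *ᵥ _ = _
      rw [← pow_eq_pow_mod _ hx]⟩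
  have hVinv : ∀ u ∈ V, x *ᵥ u ∈ V := by
    intro u hu
    have : V ≤ V.comap (Matrix.toLin' x) := Submodule.span_le.2 fun _ ⟨i, hi⟩ => by
      subst hi
      show Matrix.toLin' x _ ∈ V
      rw [Matrix.toLin'_apply, Matrix.mulVec_mulVec, ← pow_succ']
      exact hmem _
    have h := this hu
    rwa [Submodule.mem_comap, Matrix.toLin'_apply] at h
  have hv : S *ᵥ a + w ∈ V := by simpa using hmem 0
  have hU0 : x *ᵥ w - w ∈ V ⊓ W := by
    refine ⟨?_, hxW w⟩
    have h := sub_mem (hVinv _ hv) hv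
    rwa [Matrix.mulVec_add, hxa, add_sub_add_left_eq_sub] at h
  have hUne : V ⊓ W ≠ ⊥ := fun h => by
    rw [h, Submodule.mem_bot, sub_eq_zero] at hU0
    exact hw0 (hfixW w hwW hU0)
  have hUge := hbig (V ⊓ W) inf_le_right (fun u hu => ⟨hVinv u hu.1, hWinv u hu.2⟩) hUne
  have hUW : V ⊓ W = W := Submodule.eq_of_le_of_finrank_le inf_le_right (by omega)
  have hWV : W ≤ V := inf_eq_right.1 hUW
  have haV : S *ᵥ a ∈ V := by
    have := sub_mem hv (hWV hwW)
    rwa [add_sub_cancel_right] at this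
  have hlt : Module.finrank F W < Module.finrank F V :=
    Submodule.finrank_lt_finrank_of_lt (lt_of_le_of_ne hWV fun h => haW (h ▸ haV))
  exact (Submodule.eq_top_of_finrank_eq (le_antisymm (Submodule.finrank_le V) (by simp; omega))).ge

/-- in dimension three with `3 ∥ q - 1` every element of order three is cyclic -/
theorem isModel_of_three {x : Matrix (Fin 3) (Fin 3) F} (h3 : 3 ∣ Fintype.card F - 1)
    (h9 : ¬ 9 ∣ Fintype.card F - 1) (hdet : x.det = 1) {z : F} (hz : x ^ 3 = z • 1)
    (hns : ∀ c : F, x ≠ c • 1) : x ^ 3 = 1 ∧ IsModel x (cycShift F 3) := by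
  classical
  haveI := Fact.mk (by norm_num : Nat.Prime 3)
  obtain ⟨w, hw⟩ : ∃ w : Fˣ, orderOf w = 3 := by
    refine exists_prime_orderOf_dvd_card' 3 ?_
    rwa [Nat.card_units, Nat.card_eq_fintype_card]
  have hω : IsPrimitiveRoot (w : F) 3 := IsPrimitiveRoot.coe_units_iff.2 (hw ▸ IsPrimitiveRoot.orderOf w)
  set ω : F := (w : F)
  have hω3 : ω ^ 3 = 1 := hω.pow_eq_one
  have hω1 : ω ≠ 1 := hω.ne_one (by norm_num)
  have hsum : 1 + ω + ω ^ 2 = 0 := by
    apply (mul_eq_zero.1 (show (ω - 1) * (1 + ω + ω ^ 2) = 0 by linear_combination hω3)).resolve_left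
    exact sub_ne_zero.2 hω1
  have h3F : (3 : F) ≠ 0 := fun h => hω1 (by
    have hsq : (ω - 1) ^ 3 = 0 := by linear_combination hω3 + (ω - ω ^ 2) * h
    exact sub_eq_zero.1 (pow_eq_zero_iff (by norm_num) |>.1 hsq))
  have hz3 : z ^ 3 = 1 := by
    have h := congrArg Matrix.det hz
    rw [Matrix.det_pow, hdet, one_pow, Matrix.det_smul, Matrix.det_one, mul_one, Fintype.card_fin] at h
    exact h.symm
  have hz1 : z = 1 := by
    by_contra hne
    have hirr : Irreducible (X ^ 3 - C z : F[X]) := by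
      refine (X_pow_sub_C_irreducible_iff_of_prime (by norm_num : Nat.Prime 3)).2 fun b hb => ?_
      have hb0 : b ≠ 0 := fun h => by simp [h] at hb; rw [← hb] at hz3; simp at hz3
      have hord : orderOf (Units.mk0 b hb0) = 3 ^ (1 + 1) := by
        refine orderOf_eq_prime_pow ?_ ?_
        · intro h
          apply hne
          have := congrArg Units.val h
          simpa [← hb] using this
        · exact Units.ext (by
            rw [Units.val_pow_eq_pow_val, Units.val_mk0, Units.val_one,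
              show (3 : ℕ) ^ (1 + 1) = 3 * 3 by norm_num, pow_mul, hb, hz3])
      have h := orderOf_dvd_natCard (Units.mk0 b hb0)
      rw [hord, Nat.card_units, Nat.card_eq_fintype_card] at h
      exact h9 h
    have hmin : minpoly F x = X ^ 3 - C z := by
      refine (minpoly.eq_of_irreducible_of_monic hirr ?_ (monic_X_pow_sub_C z (by norm_num))).symm
      rw [map_sub, map_pow, aeval_X, aeval_C, hz, Algebra.algebraMap_eq_smul_one, sub_self]
    have hchar : x.charpoly = X ^ 3 - C z := by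
      refine (Polynomial.eq_of_monic_of_dvd_of_natDegree_le (monic_X_pow_sub_C z (by norm_num))
        x.charpoly_monic (hmin ▸ Matrix.minpoly_dvd_charpoly x) ?_)
      rw [x.charpoly_natDegree_eq_dim, natDegree_X_pow_sub_C, Fintype.card_fin]
    apply hne
    have h := Matrix.det_eq_sign_charpoly_coeff x
    rw [hdet, hchar, Fintype.card_fin] at h
    simp at h
    linear_combination -h
  rw [hz1, one_smul] at hz
  refine ⟨hz, ?_⟩
  have key : ∀ k : ℕ, ∃ v, v ≠ 0 ∧ x *ᵥ v = ω ^ k • v := by
    intro k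
    -- otherwise `x` has two eigenvalues only
    set y := (ω ^ k)⁻¹ • x with hy
    have hωk : ω ^ k ≠ 0 := pow_ne_zero _ (hω.ne_zero (by norm_num))
    have hωk3 : (ω ^ k)⁻¹ ^ 3 = 1 := by rw [inv_pow, ← pow_mul, mul_comm, pow_mul, hω3, one_pow, inv_one]
    have hy3 : y ^ 3 = 1 := by rw [hy, _root_.smul_pow, hωk3, hz, one_smul]
    have hydet : y.det = 1 := by rw [hy, Matrix.det_smul, hdet, mul_one, Fintype.card_fin, hωk3]
    by_contra hno
    push Not at hno
    have hq : (y * y + y + 1) = 0 := by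
      apply Matrix.toLin'.injective
      refine LinearMap.ext fun v => ?_
      rw [Matrix.toLin'_apply, map_zero, LinearMap.zero_apply]
      by_contra hv
      apply hno _ hv
      have h : y * (y * y + y + 1) = y * y + y + 1 := by
        rw [mul_add, mul_add, mul_one, ← pow_two, ← pow_succ', hy3]; abel
      have h' := congrArg (· *ᵥ v) h
      simp only [← Matrix.mulVec_mulVec] at h'
      conv_rhs => rw [← h']
      rw [hy, Matrix.smul_mulVec, smul_smul, mul_inv_cancel₀ hωk, one_smul]
    -- `E` is an idempotent with `y = ω (1 + (ω - 1) E)`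
    set E := (ω ^ 2 - ω)⁻¹ • (y - ω • 1) with hE
    have hne : ω ^ 2 - ω ≠ 0 := by
      rw [show ω ^ 2 - ω = ω * (ω - 1) by ring]
      exact mul_ne_zero (hω.ne_zero (by norm_num)) (sub_ne_zero.2 hω1)
    have hye : y = ω • (1 : Matrix (Fin 3) (Fin 3) F) + (ω ^ 2 - ω) • E := by
      rw [hE, smul_smul, mul_inv_cancel₀ hne, one_smul, add_sub_cancel]
    have hEE : E * E = E := by
      have hexp : y * y + y + 1 = (ω * ω + ω + 1) • (1 : Matrix (Fin 3) (Fin 3) F) +
          ((ω ^ 2 - ω) * (2 * ω + 1)) • E + ((ω ^ 2 - ω) * (ω ^ 2 - ω)) • (E * E) := by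
        rw [hye]
        simp only [add_mul, mul_add, Matrix.smul_mul, Matrix.mul_smul, one_mul, mul_one]
        module
      rw [hq, show ω * ω + ω + 1 = 0 by linear_combination hsum,
        show (ω ^ 2 - ω) * (2 * ω + 1) = -((ω ^ 2 - ω) * (ω ^ 2 - ω)) by linear_combination (ω ^ 2 - ω) * hsum,
        zero_smul, zero_add, neg_smul, neg_add_eq_sub] at hexp
      exact smul_right_injective _ (mul_ne_zero hne hne) (sub_eq_zero.1 hexp.symm)
    let f := Matrix.toLin' E
    have hproj : LinearMap.IsProj (LinearMap.range f) f := by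
      refine ⟨fun v => LinearMap.mem_range_self f v, ?_⟩
      rintro _ ⟨v, rfl⟩
      show Matrix.toLin' E (Matrix.toLin' E v) = _
      rw [← LinearMap.comp_apply, ← Matrix.toLin'_mul, hEE]
    set e := (LinearMap.range f).prodEquivOfIsCompl (LinearMap.ker f) hproj.isCompl
    set r := Module.finrank F (LinearMap.range f) with hr
    have hdety : y.det = ω ^ 3 * ω ^ r := by
      rw [← LinearMap.det_toLin' y, hye]
      have hmap : Matrix.toLin' (ω • (1 : Matrix (Fin 3) (Fin 3) F) + (ω ^ 2 - ω) • E) =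
          e.toLinearMap ∘ₗ ((ω ^ 2) • LinearMap.id).prodMap (ω • LinearMap.id) ∘ₗ
            e.symm.toLinearMap := by
        rw [map_add, map_smul, map_smul, Matrix.toLin'_one]
        refine LinearMap.ext fun v => ?_
        obtain ⟨⟨a, b⟩, rfl⟩ := e.surjective v
        have ha : f a = a := hproj.map_id _ a.2
        have hb : f b = 0 := b.2
        simp only [LinearMap.add_apply, LinearMap.smul_apply, LinearMap.id_apply, LinearMap.comp_apply,
          LinearEquiv.coe_coe, LinearEquiv.symm_apply_apply, LinearMap.prodMap_apply]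
        simp only [e, Submodule.coe_prodEquivOfIsCompl', Submodule.coe_smul]
        rw [show Matrix.toLin' E = f from rfl, map_add, ha, hb]
        module
      rw [hmap, LinearMap.det_conj, LinearMap.det_prodMap, LinearMap.det_smul,
        LinearMap.det_smul, LinearMap.det_id, LinearMap.det_id, mul_one, mul_one, ← hr]
      have h := LinearMap.finrank_range_add_finrank_ker f
      rw [Module.finrank_fin_fun, ← hr] at h
      rw [← pow_mul, ← pow_add, ← pow_add, show 2 * r + Module.finrank F (LinearMap.ker f) = 3 + r by omega]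
    rw [hydet, hω3, one_mul] at hdety
    have hr3 : r = 0 ∨ r = 3 := by
      have h := (hω.pow_eq_one_iff_dvd r).1 hdety.symm
      have h2 := Submodule.finrank_le (LinearMap.range f)
      rw [Module.finrank_fin_fun] at h2
      omega
    have hscal : ∃ c : F, y = c • 1 := by
      rcases hr3 with h | h
      · refine ⟨ω, ?_⟩
        have : f = 0 := LinearMap.range_eq_bot.1 (Submodule.finrank_eq_zero.1 h)
        rw [hye, show E = 0 from Matrix.toLin'.injective (by rw [map_zero]; exact this), smul_zero, add_zero]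
      · refine ⟨ω ^ 2, ?_⟩
        have htop : LinearMap.range f = ⊤ :=
          Submodule.eq_top_of_finrank_eq (by rw [Module.finrank_fin_fun]; exact h)
        have : f = LinearMap.id := LinearMap.ext fun v => hproj.map_id v (htop ▸ Submodule.mem_top)
        rw [hye, show E = 1 from Matrix.toLin'.injective (by rw [Matrix.toLin'_one]; exact this), ← add_smul]
        congr 1; ring
    obtain ⟨c, hc⟩ := hscal
    refine hns (ω ^ k * c) ?_
    rw [← smul_smul, ← hc, hy, smul_smul, mul_inv_cancel₀ hωk, one_smul]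
  obtain ⟨a, ha0, ha⟩ := key 0
  obtain ⟨b, hb0, hb⟩ := key 1
  obtain ⟨c, hc0, hc⟩ := key 2
  have hli3 : LinearIndependent F ![a, b, c] := by
    refine Module.End.eigenvectors_linearIndependent' (Matrix.toLin' x) (fun i : Fin 3 => ω ^ (i : ℕ))
      (fun i j h => Fin.ext (hω.pow_inj i.isLt j.isLt h)) _ fun i => ?_
    refine ⟨?_, ?_⟩
    · rw [Module.End.mem_eigenspace_iff, Matrix.toLin'_apply]
      fin_cases i
      · exact ha
      · exact hb
      · exact hc
    · fin_cases i
      · exact ha0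
      · exact hb0
      · exact hc0
  refine isModel_of_cyclic hz (a + b + c) ?_
  rw [Fintype.linearIndependent_iff] at hli3 ⊢
  intro g hg
  simp only [pow_zero, pow_one] at ha hb
  simp only [Fin.sum_univ_three, Fin.val_zero, Fin.val_one, Fin.val_two, pow_zero, pow_one, pow_two,
    ← Matrix.mulVec_mulVec, Matrix.one_mulVec, Matrix.mulVec_add, ha, hb, hc, Matrix.mulVec_smul, smul_add,
    smul_smul] at hg
  have hcoef := hli3 ![g 0 + g 1 + g 2, g 0 + g 1 * ω + g 2 * (ω * ω), g 0 + g 1 * (ω * ω) + g 2 * (ω * ω * (ω * ω))]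
    (by
      simp only [Fin.sum_univ_three, Matrix.cons_val_zero, Matrix.cons_val_one, Matrix.cons_val_two,
        Matrix.tail_cons, Matrix.head_cons]
      linear_combination (norm := module) hg)
  have A := hcoef 0
  have B := hcoef 1
  have C' := hcoef 2
  simp only [Matrix.cons_val_zero, Matrix.cons_val_one, Matrix.cons_val_two, Matrix.tail_cons,
    Matrix.head_cons] at A B C'
  intro i
  fin_cases i
  · apply (mul_eq_zero.1 (show (3 : F) * g 0 = 0 from ?_)).resolve_left h3F
    linear_combination A + B + C' - g 1 * hsum - g 2 * hsum - g 2 * ω * hω3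
  · apply (mul_eq_zero.1 (show (3 : F) * g 1 = 0 from ?_)).resolve_left h3F
    linear_combination A + ω ^ 2 * B + ω * C' - g 0 * hsum - 2 * g 1 * hω3 - g 2 * ω * hω3 -
      g 2 * ω ^ 2 * hω3 - g 2 * hsum
  · apply (mul_eq_zero.1 (show (3 : F) * g 2 = 0 from ?_)).resolve_left h3F
    linear_combination A + ω * B + ω ^ 2 * C' - g 0 * hsum - g 1 * ω * hω3 - g 1 * hsum -
      g 2 * (2 + ω ^ 3) * hω3

/-- a cyclic element has a conjugate in the normaliser -/
theorem exists_conj_mem {K : Subalgebra F (Matrix (Fin n) (Fin n) F)} (hn : n.Prime) (hn0 : (n : F) ≠ 0)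
    (hK : Cfsg.Geo.IsFieldSubalgebra n K) {x : Matrix.SpecialLinearGroup (Fin n) F}
    (hx : IsModel (x : Matrix (Fin n) (Fin n) F) (cycShift F n)) :
    ∃ P : Matrix.SpecialLinearGroup (Fin n) F, P⁻¹ * x * P ∈ (Cfsg.Geo.subalgebraNormalizer K).comap
      (Matrix.SpecialLinearGroup.toGL : Matrix.SpecialLinearGroup (Fin n) F →* GL (Fin n) F) := by
  obtain ⟨g, hg, hgM⟩ := exists_cyclic_normalizer hn hK
  let gs : Matrix.SpecialLinearGroup (Fin n) F :=
    ⟨(g : Matrix (Fin n) (Fin n) F), by rw [hgM.det_eq, ← hx.det_eq]; exact x.2⟩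
  obtain ⟨P, hP⟩ := exists_SL_conj (y := gs) hx hgM (hasDetCentralizer_cycShift hn0)
  refine ⟨P, ?_⟩
  rw [hP, Subgroup.mem_comap, show Matrix.SpecialLinearGroup.toGL gs = g from Units.ext rfl]
  exact hg

end Cfsg.Agent.Lib.LinClasses.Singer
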