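import Mathlib

/-! `-1` as an `n`-th power in a finite field of odd order. -/
set_option autoImplicit false

namespace Cfsg.Agent.Lib.LinClasses

variable {F : Type*} [Field F] [Fintype F]

theorem exists_pow_eq_neg_one_iff (h2 : (2 : F) ≠ 0) {n : ℕ} (hn : n ≠ 0) :
    (∃ s : F, s ^ n = -1) ↔ padicValNat 2 n < padicValNat 2 (Fintype.card F - 1) := by
  classical
  set t := padicValNat 2 n with ht
  obtain ⟨m, hm⟩ : 2 ^ t ∣ n := pow_padicValNat_dvd
  have hmodd : Odd m := by
    rcases Nat.even_or_odd m with ⟨j, hj⟩ | h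
    · exfalso
      apply pow_succ_padicValNat_not_dvd (p := 2) hn
      exact ⟨j, by rw [← ht, pow_succ, hm, hj]; ring⟩
    · exact h
  have hcard : Nat.card Fˣ = Fintype.card F - 1 := by rw [Nat.card_eq_fintype_card, Fintype.card_units]
  have hq : Fintype.card F - 1 ≠ 0 := by
    have := Fintype.one_lt_card (α := F)
    omega
  have hne : (-1 : F) ≠ 1 := fun h => h2 (by linear_combination -h)
  constructor
  · rintro ⟨s, hs⟩
    have hs0 : s ≠ 0 := by
      rintro rfl
      rw [zero_pow hn] at hs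
      exact neg_ne_zero.mpr one_ne_zero hs.symm
    have h1 : (Units.mk0 s hs0 ^ m) ^ 2 ^ t = -1 := Units.ext (by
      rw [← pow_mul, Units.val_pow_eq_pow_val, Units.val_mk0, mul_comm, ← hm, hs]; rfl)
    have hord : orderOf (Units.mk0 s hs0 ^ m) = 2 ^ (t + 1) := by
      refine orderOf_eq_prime_pow ?_ ?_
      · rw [h1]
        exact fun h => hne (by simpa using congrArg Units.val h)
      · rw [pow_succ, pow_mul, h1, neg_one_sq]
    have hdvd : 2 ^ (t + 1) ∣ Fintype.card F - 1 := by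
      rw [← hord, ← hcard]; exact orderOf_dvd_natCard _
    exact (padicValNat_dvd_iff_le hq).mp hdvd
  · intro h
    have hdvd : 2 ^ (t + 1) ∣ Fintype.card F - 1 := (padicValNat_dvd_iff_le hq).mpr h
    obtain ⟨g, hg⟩ := IsCyclic.exists_ofOrder_eq_natCard (α := Fˣ)
    obtain ⟨e, he⟩ := hdvd
    rw [hcard, he] at hg
    have h1 : (g ^ e) ^ 2 ^ t ≠ 1 := by
      rw [← pow_mul]
      intro h
      have he0 : 0 < e := by
        rcases Nat.eq_zero_or_pos e with h0 | h0
        · rw [h0, mul_zero] at he; exact absurd he hq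
        · exact h0
      have := Nat.le_of_dvd (Nat.mul_pos he0 (Nat.two_pow_pos t)) (hg ▸ orderOf_dvd_of_pow_eq_one h)
      rw [pow_succ] at this
      have := Nat.mul_pos he0 (Nat.two_pow_pos t)
      nlinarith
    have h3 : ((g ^ e) ^ 2 ^ t : Fˣ) * ((g ^ e) ^ 2 ^ t) = 1 := by
      rw [← pow_two, ← pow_mul, ← pow_mul, ← pow_succ, mul_comm e, ← hg, pow_orderOf_eq_one]
    have h4 : (((g ^ e) ^ 2 ^ t : Fˣ) : F) = -1 := by
      have h5 : (((g ^ e) ^ 2 ^ t : Fˣ) : F) * (((g ^ e) ^ 2 ^ t : Fˣ) : F) = 1 := by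
        rw [← Units.val_mul, h3, Units.val_one]
      refine (mul_self_eq_one_iff.mp h5).resolve_left fun h => h1 (Units.ext ?_)
      exact h
    refine ⟨((g ^ e : Fˣ) : F), ?_⟩
    rw [hm, pow_mul, ← Units.val_pow_eq_pow_val, h4, hmodd.neg_one_pow]

end Cfsg.Agent.Lib.LinClasses
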