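import Mathlib
import Cfsg.Prelude.Def_LieClassical
import Cfsg.Agent.Lib.LinClasses.Heisenberg
import Cfsg.Agent.Lib.Classical.UnitaryOrder
import Cfsg.Agent.Lib.Forms.Families
import Cfsg.Agent.Lib.Forms.Bridge

/-! Semisimple unitary `3 × 3` matrices: orthonormal eigenbases and conjugacy in `SU_3`. -/
set_option autoImplicit false

open scoped Matrix
open Cfsg.Agent.Lib

namespace Cfsg.Agent.Lib.LinClasses.UnitaryThree

variable {F : Type*} [Field F] [Fintype F] {q : ℕ}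

/-- column `j` -/
lemma mulVec_eq_sum_cols (P : Matrix (Fin 3) (Fin 3) F) (u : Fin 3 → F) :
    P *ᵥ u = ∑ j, u j • (fun i => P i j) := by
  funext i
  simp [Matrix.mulVec, dotProduct, Finset.sum_apply, mul_comm]

/-- a matrix with orthogonal columns of equal norm multiplies the form -/
lemma form_of_cols (hF : Fintype.card F = q ^ 2) (P : Matrix (Fin 3) (Fin 3) F) {μ : F}
    (h : ∀ i j, Forms.hermSesq hF 3 (fun k => P k i) (fun k => P k j) = if i = j then μ else 0)
    (u v : Fin 3 → F) :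
    Cfsg.hermForm 3 F q (P *ᵥ u) (P *ᵥ v) = μ * Cfsg.hermForm 3 F q u v := by
  rw [← Forms.hermSesq_apply hF, mulVec_eq_sum_cols, mulVec_eq_sum_cols]
  simp only [map_sum, LinearMap.sum_apply, LinearMap.map_smulₛₗ, LinearMap.smul_apply, map_smul, smul_eq_mul, h,
    mul_ite, mul_zero, Finset.sum_ite_eq', Finset.sum_ite_eq, Finset.mem_univ, if_true]
  simp only [Cfsg.hermForm, Forms.qPowHom_apply, Finset.mul_sum, RingHom.id_apply]
  exact Finset.sum_congr rfl fun i _ => by ring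

/-- membership of `GU` by the columns -/
lemma mem_GU_of_cols (hF : Fintype.card F = q ^ 2) (g : GL (Fin 3) F)
    (h : ∀ i j, Forms.hermSesq hF 3 (fun k => (g : Matrix (Fin 3) (Fin 3) F) k i)
      (fun k => (g : Matrix (Fin 3) (Fin 3) F) k j) = if i = j then 1 else 0) : g ∈ Cfsg.GU 3 F q := fun u v => by
  show Cfsg.hermForm 3 F q ((g : Matrix (Fin 3) (Fin 3) F) *ᵥ u) ((g : Matrix (Fin 3) (Fin 3) F) *ᵥ v) = _
  rw [form_of_cols hF _ h, one_mul]

lemma mem_GU_iff (g : GL (Fin 3) F) : g ∈ Cfsg.GU 3 F q ↔ ∀ u v : Fin 3 → F,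
    Cfsg.hermForm 3 F q ((g : Matrix (Fin 3) (Fin 3) F) *ᵥ u) ((g : Matrix (Fin 3) (Fin 3) F) *ᵥ v) =
      Cfsg.hermForm 3 F q u v := Iff.rfl

/-- a unitary diagonal matrix -/
lemma diag_mem_GU (hF : Fintype.card F = q ^ 2) (g : GL (Fin 3) F) (d : Fin 3 → F)
    (hg : (g : Matrix (Fin 3) (Fin 3) F) = Matrix.diagonal d) (hd : ∀ i, d i ^ (q + 1) = 1) :
    g ∈ Cfsg.GU 3 F q := by
  rw [mem_GU_iff]
  intro u v
  rw [hg]
  exact Classical.diagonal_mem_GU hF d hd u v

/-- orthonormal eigenbasis -/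
theorem exists_unitary_diag (hF : Fintype.card F = q ^ 2) {x : GL (Fin 3) F} (hx : x ∈ Cfsg.GU 3 F q)
    {d : Fin 3 → F} (hd : ∀ i, d i ^ (q + 1) = 1)
    (hmod : IsModel (x : Matrix (Fin 3) (Fin 3) F) (Matrix.diagonal d))
    (hpat : (∀ i j, i ≠ j → d i ≠ d j) ∨ (d 0 = d 1 ∧ d 0 ≠ d 2)) :
    ∃ P : GL (Fin 3) F, P ∈ Cfsg.GU 3 F q ∧
      (x : Matrix (Fin 3) (Fin 3) F) * (P : Matrix (Fin 3) (Fin 3) F) = (P : Matrix (Fin 3) (Fin 3) F) * Matrix.diagonal d := by
  classical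
  obtain ⟨Ψ, hΨ⟩ := hmod
  let e : Fin 3 → (Fin 3 → F) := fun i => Ψ (Pi.single i 1)
  have hxe : ∀ i, (x : Matrix (Fin 3) (Fin 3) F) *ᵥ e i = d i • e i := fun i => by
    simp only [e]
    rw [hΨ, ← map_smul]
    congr 1
    ext k
    rw [Matrix.mulVec_diagonal]
    by_cases hk : k = i
    · subst hk; simp
    · simp [hk]
  have hdec : ∀ w : Fin 3 → F, w = ∑ i, Ψ.symm w i • e i := fun w => by
    simp only [e, ← map_smul, ← map_sum]
    rw [show ∑ i, Ψ.symm w i • (Pi.single i 1 : Fin 3 → F) = Ψ.symm w by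
      simp [← Pi.single_smul', Finset.univ_sum_single], LinearEquiv.apply_symm_apply]
  have he0 : ∀ i, e i ≠ 0 := fun i h => by
    have := congrFun ((Ψ.map_eq_zero_iff).1 h) i
    simp at this
  set B := Forms.hermSesq hF 3
  have hB := Forms.hermSesq_goodForm (n := 3) hF
  have hd0 : ∀ i, d i ≠ 0 := fun i h => by simpa [h] using hd i
  have horth : ∀ i j, d i ≠ d j → B (e i) (e j) = 0 := by
    intro i j hij
    have h : B ((x : Matrix (Fin 3) (Fin 3) F) *ᵥ e i) ((x : Matrix (Fin 3) (Fin 3) F) *ᵥ e j) = B (e i) (e j) :=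
      (mem_GU_iff x).1 hx _ _
    rw [hxe, hxe, map_smul, LinearMap.map_smulₛₗ, LinearMap.smul_apply, smul_eq_mul, smul_eq_mul,
      Forms.qPowHom_apply, mul_left_comm, ← mul_assoc] at h
    by_contra hne
    apply hij
    have h1 := (mul_eq_right₀ hne).1 h
    have h2 := hd i
    rw [pow_succ] at h2
    exact mul_left_cancel₀ (pow_ne_zero q (hd0 i)) (h2.trans h1.symm)
  -- an orthogonal anisotropic eigenbasis
  obtain ⟨f, hfo, hfn, hfx⟩ : ∃ f : Fin 3 → (Fin 3 → F), (∀ i j, i ≠ j → B (f i) (f j) = 0) ∧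
      (∀ i, B (f i) (f i) ≠ 0) ∧ ∀ i, (x : Matrix (Fin 3) (Fin 3) F) *ᵥ f i = d i • f i := by
    have haniso : ∀ i, (∀ j, j ≠ i → B (e i) (e j) = 0) → B (e i) (e i) ≠ 0 := fun i h h0 => he0 i
      (hB.nondeg _ fun w => by
        rw [hdec w, map_sum]
        refine Finset.sum_eq_zero fun j _ => ?_
        rw [map_smul]
        by_cases hj : j = i
        · subst hj; rw [h0, smul_zero]
        · rw [h j hj, smul_zero])
    rcases hpat with hdist | ⟨h01, h02⟩
    · exact ⟨e, fun i j h => horth i j (hdist i j h), fun i => haniso i fun j hj => horth i j (hdist i j hj.symm), hxe⟩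
    · have h20 : B (e 2) (e 0) = 0 := horth 2 0 h02.symm
      have h21 : B (e 2) (e 1) = 0 := horth 2 1 (h01 ▸ h02.symm)
      have h22 : B (e 2) (e 2) ≠ 0 := haniso 2 fun j hj => by
        fin_cases j
        · exact h20
        · exact h21
        · exact absurd rfl hj
      have hpol := Forms.hermitian_polarization (Forms.qPowHom_ne_id hF) (Forms.hermSesq_isSymm (n := 3) hF)
      obtain ⟨w1, hw1, hw1n⟩ := hB.exists_orth_anisotropic hpol (v := fun _ : Fin 1 => e 2)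
        (fun i j h => absurd (Subsingleton.elim i j) h) (fun _ => h22) (by simp)
      have hw1' : B w1 (e 2) = 0 := hB.eq_zero_symm (hw1 0)
      obtain ⟨w2, hw2, hw2n⟩ := hB.exists_orth_anisotropic hpol (v := ![e 2, w1])
        (fun i j h => by
          fin_cases i <;> fin_cases j
          · exact absurd rfl h
          · exact hw1 0
          · exact hw1'
          · exact absurd rfl h)
        (fun i => by
          fin_cases i
          · exact h22
          · exact hw1n)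
        (by simp)
      have hxw : ∀ w, B (e 2) w = 0 → (x : Matrix (Fin 3) (Fin 3) F) *ᵥ w = d 0 • w := by
        intro w hw
        have hc : Ψ.symm w 2 = 0 := by
          rw [hdec w, Fin.sum_univ_three, map_add, map_add, map_smul, map_smul, map_smul, h20, h21] at hw
          simpa [h22] using hw
        rw [hdec w, Fin.sum_univ_three, hc, zero_smul, add_zero, Matrix.mulVec_add, Matrix.mulVec_smul,
          Matrix.mulVec_smul, hxe, hxe, ← h01, smul_add]
        module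
      refine ⟨![w1, w2, e 2], fun i j h => ?_, fun i => ?_, fun i => ?_⟩
      · have a : B w1 w2 = 0 := hw2 1
        have b : B (e 2) w2 = 0 := hw2 0
        fin_cases i <;> fin_cases j
        · exact absurd rfl h
        · exact a
        · exact hw1'
        · exact hB.eq_zero_symm a
        · exact absurd rfl h
        · exact hB.eq_zero_symm b
        · exact hw1 0
        · exact b
        · exact absurd rfl h
      · fin_cases i
        · exact hw1n
        · exact hw2n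
        · exact h22
      · fin_cases i
        · exact hxw _ (hw1 0)
        · show (x : Matrix (Fin 3) (Fin 3) F) *ᵥ w2 = d 1 • w2
          rw [← h01]; exact hxw _ (hw2 0)
        · exact hxe 2
  -- normalise
  have hfix : ∀ i, Forms.qPowHom hF (B (f i) (f i))⁻¹ = (B (f i) (f i))⁻¹ := fun i => by
    rw [map_inv₀, (Forms.hermSesq_isSymm hF).eq]
  choose c hc using fun i => Forms.exists_norm_eq (Forms.qPowHom_ne_id hF) (Forms.qPowHom_qPowHom hF) (hfix i)
  let g : Fin 3 → (Fin 3 → F) := fun i => c i • f i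
  have hg : ∀ i j, B (g i) (g j) = if i = j then 1 else 0 := by
    intro i j
    simp only [g]
    rw [map_smul, LinearMap.map_smulₛₗ, LinearMap.smul_apply, smul_eq_mul, smul_eq_mul, mul_left_comm]
    by_cases h : i = j
    · subst h
      rw [if_pos rfl, ← mul_assoc, mul_comm (Forms.qPowHom hF _), hc, inv_mul_cancel₀ (hfn i)]
    · rw [if_neg h, hfo i j h, mul_zero, mul_zero]
  have hli : LinearIndependent F g := Forms.linearIndependent_of_orthogonal
    (fun i j h => by rw [hg, if_neg h]) (fun i => by rw [hg, if_pos rfl]; exact one_ne_zero)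
  let M : Matrix (Fin 3) (Fin 3) F := Matrix.of fun i j => g j i
  have hu : IsUnit M := Matrix.linearIndependent_cols_iff_isUnit.1 (by exact hli)
  refine ⟨hu.unit, mem_GU_of_cols hF _ (fun i j => hg i j), ?_⟩
  show (x : Matrix (Fin 3) (Fin 3) F) * M = M * Matrix.diagonal d
  ext i j
  rw [Matrix.mul_diagonal]
  have h : ((x : Matrix (Fin 3) (Fin 3) F) *ᵥ g j) i = (d j • g j) i := by
    simp only [g]
    rw [Matrix.mulVec_smul, hfx, smul_comm]
  calc ((x : Matrix (Fin 3) (Fin 3) F) * M) i j = ((x : Matrix (Fin 3) (Fin 3) F) *ᵥ g j) i := rfl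
    _ = d j * g j i := by rw [h]; rfl
    _ = M i j * d j := mul_comm _ _

/-- conjugacy in `SU_3` -/
theorem exists_SU_conj (hF : Fintype.card F = q ^ 2) {x h : GL (Fin 3) F} (hx : x ∈ Cfsg.GU 3 F q)
    (hh : h ∈ Cfsg.GU 3 F q) {d : Fin 3 → F} (hd : ∀ i, d i ^ (q + 1) = 1)
    (hxd : IsModel (x : Matrix (Fin 3) (Fin 3) F) (Matrix.diagonal d))
    (hhd : IsModel (h : Matrix (Fin 3) (Fin 3) F) (Matrix.diagonal d))
    (hpat : (∀ i j, i ≠ j → d i ≠ d j) ∨ (d 0 = d 1 ∧ d 0 ≠ d 2)) :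
    ∃ g ∈ Cfsg.GU 3 F q ⊓ Cfsg.Geo.specialLinear (Fin 3) F, g⁻¹ * x * g = h := by
  obtain ⟨P, hPU, hP⟩ := exists_unitary_diag hF hx hd hxd hpat
  obtain ⟨Q, hQU, hQ⟩ := exists_unitary_diag hF hh hd hhd hpat
  set δ : F := (Q : Matrix (Fin 3) (Fin 3) F).det / (P : Matrix (Fin 3) (Fin 3) F).det with hδ
  have hP0 : (P : Matrix (Fin 3) (Fin 3) F).det ≠ 0 := (P.isUnit.map Matrix.detMonoidHom).ne_zero
  have hQ0 : (Q : Matrix (Fin 3) (Fin 3) F).det ≠ 0 := (Q.isUnit.map Matrix.detMonoidHom).ne_zero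
  have hδn : δ ^ (q + 1) = 1 := by
    rw [hδ, div_pow, Classical.det_norm_one hF ⟨Q, hQU⟩, Classical.det_norm_one hF ⟨P, hPU⟩, div_one]
  let D : Matrix (Fin 3) (Fin 3) F := Matrix.diagonal ![δ, 1, 1]
  have hDdet : D.det = δ := by simp [D, Matrix.det_diagonal, Fin.prod_univ_three]
  let Du : GL (Fin 3) F := Matrix.GeneralLinearGroup.mkOfDetNeZero D (by rw [hDdet]; exact div_ne_zero hQ0 hP0)
  have hDU : Du ∈ Cfsg.GU 3 F q := diag_mem_GU hF Du ![δ, 1, 1] rfl fun i => by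
    fin_cases i
    · exact hδn
    · exact one_pow _
    · exact one_pow _
  refine ⟨P * Du * Q⁻¹, Subgroup.mem_inf.2 ⟨mul_mem (mul_mem hPU hDU) (inv_mem hQU), ?_⟩, ?_⟩
  · refine MonoidHom.mem_ker.2 (Units.ext ?_)
    rw [map_mul, map_mul, map_inv, Units.val_mul, Units.val_mul, Units.val_inv_eq_inv_val, Units.val_one]
    show (P : Matrix (Fin 3) (Fin 3) F).det * D.det * (Q : Matrix (Fin 3) (Fin 3) F).det⁻¹ = 1
    rw [hDdet, hδ]
    field_simp
  · rw [mul_assoc, inv_mul_eq_iff_eq_mul]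
    apply Units.ext
    apply Q.isUnit.mul_right_cancel
    simp only [Units.val_mul, mul_assoc]
    rw [hQ, Units.inv_mul, mul_one, Units.inv_mul_cancel_left]
    rw [← mul_assoc (x : Matrix (Fin 3) (Fin 3) F), hP, mul_assoc]
    show (P : Matrix (Fin 3) (Fin 3) F) * (Matrix.diagonal d * D) = (P : Matrix (Fin 3) (Fin 3) F) * (D * Matrix.diagonal d)
    simp only [D, Matrix.diagonal_mul_diagonal, mul_comm]

/-- the adapted basis of a unitary `3^(1+2)` is orthogonal of constant norm -/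
theorem frame_form (hF : Fintype.card F = q ^ 2) (hq3 : 3 ∣ q + 1) {R : Subgroup (GL (Fin 3) F)}
    (hRU : R ≤ Cfsg.GU 3 F q) (Φ : Heisenberg.Frame R) :
    ∃ μ : F, μ ≠ 0 ∧ ∀ u v : Fin 3 → F, Cfsg.hermForm 3 F q ((Φ.P : Matrix (Fin 3) (Fin 3) F) *ᵥ u)
      ((Φ.P : Matrix (Fin 3) (Fin 3) F) *ᵥ v) = μ * Cfsg.hermForm 3 F q u v := by
  classical
  set B := Forms.hermSesq hF 3
  set P := (Φ.P : Matrix (Fin 3) (Fin 3) F)
  let e : Fin 3 → (Fin 3 → F) := fun j k => P k j
  have he : ∀ j, P *ᵥ Pi.single j 1 = e j := fun j => by rw [Matrix.mulVec_single_one]; rfl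
  have hω : ∀ j : Fin 3, (![1, Φ.ω, Φ.ω * Φ.ω] : Fin 3 → F) j = Φ.ω ^ (j : ℕ) := fun j => by
    fin_cases j <;> simp [pow_two]
  have ha : ∀ j, (Φ.a : Matrix (Fin 3) (Fin 3) F) *ᵥ e j = Φ.ω ^ (j : ℕ) • e j := fun j => by
    rw [← he, Matrix.mulVec_mulVec, Φ.haP, ← Matrix.mulVec_mulVec, ← hω, Heisenberg.dMat]
    rw [Matrix.diagonal_mulVec_single, mul_one, ← Matrix.mulVec_smul]
    congr 1
    ext k
    by_cases hk : k = j
    · subst hk; simp
    · simp [hk]
  have hinv : ∀ g ∈ R, ∀ u v, B ((g : Matrix (Fin 3) (Fin 3) F) *ᵥ u) ((g : Matrix (Fin 3) (Fin 3) F) *ᵥ v) = B u v :=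
    fun g hg u v => (mem_GU_iff g).1 (hRU hg) v u
  have hωn : Φ.ω ^ (q + 1) = 1 := by
    obtain ⟨k, hk⟩ := hq3
    rw [hk, pow_mul, Φ.hω.pow_eq_one, one_pow]
  have horth : ∀ i j, i ≠ j → B (e i) (e j) = 0 := by
    intro i j hij
    have h := hinv _ Φ.ha (e i) (e j)
    rw [ha, ha, map_smul, LinearMap.map_smulₛₗ, LinearMap.smul_apply, smul_eq_mul, smul_eq_mul,
      Forms.qPowHom_apply, mul_left_comm, ← mul_assoc] at h
    by_contra hne
    have h1 := (mul_eq_right₀ hne).1 h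
    have h2 : (Φ.ω ^ (i : ℕ)) ^ q * Φ.ω ^ (i : ℕ) = 1 := by
      rw [← pow_succ, ← pow_mul, mul_comm, pow_mul, hωn, one_pow]
    have h3 := mul_left_cancel₀ (left_ne_zero_of_mul_eq_one h1) (h2.trans h1.symm)
    exact hij (Fin.ext (Φ.hω.pow_inj i.isLt j.isLt h3))
  have hb : ∀ j : Fin 3, (Φ.b : Matrix (Fin 3) (Fin 3) F) *ᵥ e j = e (j + 1) := fun j => by
    rw [← he, Matrix.mulVec_mulVec, Φ.hbP, ← Matrix.mulVec_mulVec, ← he]
    congr 1
    ext k
    fin_cases j <;> fin_cases k <;> simp [Heisenberg.sMat]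
  have heq : ∀ j : Fin 3, B (e (j + 1)) (e (j + 1)) = B (e j) (e j) := fun j => by
    rw [← hb, hinv _ Φ.hb]
  have hall : ∀ i j, B (e i) (e j) = if i = j then B (e 0) (e 0) else 0 := by
    intro i j
    by_cases h : i = j
    · subst h
      rw [if_pos rfl]
      have h1 := heq 0
      have h2 := heq 1
      fin_cases i
      · rfl
      · exact h1
      · exact h2.trans h1
    · rw [if_neg h, horth i j h]
  refine ⟨B (e 0) (e 0), fun h0 => ?_, form_of_cols hF P hall⟩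
  have hz : P *ᵥ Pi.single 0 1 = 0 := by
    refine (Forms.hermSesq_goodForm hF).nondeg _ fun w => ?_
    obtain ⟨w', rfl⟩ : ∃ w', P *ᵥ w' = w := ⟨((Φ.P⁻¹ : GL (Fin 3) F) : Matrix (Fin 3) (Fin 3) F) *ᵥ w, by
      rw [Matrix.mulVec_mulVec, ← Units.val_mul, mul_inv_cancel, Units.val_one, Matrix.one_mulVec]⟩
    show Cfsg.hermForm 3 F q (P *ᵥ w') (P *ᵥ Pi.single 0 1) = 0
    rw [form_of_cols hF P hall, h0, zero_mul]
  have := congrArg (((Φ.P⁻¹ : GL (Fin 3) F) : Matrix (Fin 3) (Fin 3) F) *ᵥ ·) hz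
  simp only [Matrix.mulVec_mulVec, Matrix.mulVec_zero, P, ← Units.val_mul, inv_mul_cancel, Units.val_one,
    Matrix.one_mulVec] at this
  simpa using congrFun this 0

end Cfsg.Agent.Lib.LinClasses.UnitaryThree
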